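import Groth.Agent.DerivedCoh.Duality.Rep
import Groth.Agent.PicAux.Powers
import Groth.Agent.DerivedCoh.KFlat.Pointwise

/-!
`M ⊗^L RHom(K, O) ≅ RHom(K, M)` for perfect `K`.
-/

universe u

open CategoryTheory CategoryTheory.Limits AlgebraicGeometry HomologicalComplex
open Groth.KTheory.Perf

namespace Groth.DerivedCoh.Duality

open Groth.DerivedCoh.KFlat (T IsKFlat tot totL totR totAssoc)
open Groth.DerivedCoh.ExtZero (resCx ezCx)

attribute [local instance] HasDerivedCategory.standard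

variable {U X : Scheme.{u}}

local notation "up" => ComplexShape.up ℤ

/-- `totAssoc`, typed for rewriting -/
noncomputable def assocT (P D K : CochainComplex X.Modules ℤ) :
    (totL (T X) K).obj ((totR (T X) P).obj D) ≅ (totR (T X) P).obj ((totL (T X) K).obj D) :=
  totAssoc P D K

lemma totR_map_eq (P : CochainComplex X.Modules ℤ) {D D' : CochainComplex X.Modules ℤ} (f : D ⟶ D') :
    (totR (T X) P).map f = mapBifunctorMap (𝟙 P) f (T X) up :=
  rfl

lemma totL_map_eq (K : CochainComplex X.Modules ℤ) {D D' : CochainComplex X.Modules ℤ} (f : D ⟶ D') :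
    (totL (T X) K).map f = mapBifunctorMap f (𝟙 K) (T X) up :=
  rfl

lemma mapBifunctorMap_id_id (P D : CochainComplex X.Modules ℤ) :
    mapBifunctorMap (𝟙 P) (𝟙 D) (T X) up = 𝟙 (tot (T X) P D) :=
  (totR_map_eq P (𝟙 D)).symm.trans ((totR (T X) P).map_id D)

lemma assocT_natural₂ (P : CochainComplex X.Modules ℤ) {D D' : CochainComplex X.Modules ℤ}
    (f : D ⟶ D') (K : CochainComplex X.Modules ℤ) :
    (totL (T X) K).map ((totR (T X) P).map f) ≫ (assocT P D' K).hom =
      (assocT P D K).hom ≫ (totR (T X) P).map ((totL (T X) K).map f) := by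
  simp only [totR_map_eq, totL_map_eq]
  exact totAssoc_map (𝟙 P) f (𝟙 K)

lemma assocT_natural₃ (P D : CochainComplex X.Modules ℤ) {K K' : CochainComplex X.Modules ℤ}
    (s : K ⟶ K') :
    (totR (T X) ((totR (T X) P).obj D)).map s ≫ (assocT P D K').hom =
      (assocT P D K).hom ≫ (totR (T X) P).map ((totR (T X) D).map s) := by
  have h := totAssoc_map (𝟙 P) (𝟙 D) s
  rw [mapBifunctorMap_id_id] at h
  exact h

variable (P : CochainComplex X.Modules ℤ) (hP : IsKFlat (T X).flip P)

include hP in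
lemma totR_inverts :
    (HomologicalComplex.quasiIso X.Modules up).IsInvertedBy (totR (T X) P ⋙ DerivedCategory.Q) :=
  fun A B f hf => by
    have : QuasiIso f := (HomologicalComplex.mem_quasiIso_iff f).1 hf
    exact (DerivedCategory.isIso_Q_map_iff_quasiIso _ _).2 (KFlat.quasiIso_totR (T X) hP f)

/-- `P ⊗ -` on the derived category -/
noncomputable def Lr : DCoh.D X ⥤ DCoh.D X :=
  Localization.lift _ (totR_inverts P hP) DerivedCategory.Q

/-- `Lr` on complexes -/
noncomputable def lrIso : DerivedCategory.Q ⋙ Lr P hP ≅ totR (T X) P ⋙ DerivedCategory.Q :=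
  Localization.fac _ (totR_inverts P hP) DerivedCategory.Q

/-- `P ⊗ f` -/
noncomputable def lrHom {A B : CochainComplex X.Modules ℤ} (f : DCoh.toD X A ⟶ DCoh.toD X B) :
    DCoh.toD X ((totR (T X) P).obj A) ⟶ DCoh.toD X ((totR (T X) P).obj B) :=
  (lrIso P hP).inv.app A ≫ (Lr P hP).map f ≫ (lrIso P hP).hom.app B

lemma lrHom_Q {A B : CochainComplex X.Modules ℤ} (f : A ⟶ B) :
    lrHom P hP (DerivedCategory.Q.map f) = DerivedCategory.Q.map ((totR (T X) P).map f) := by
  refine (congrArg ((lrIso P hP).inv.app A ≫ ·) ((lrIso P hP).hom.naturality f)).trans ?_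
  exact (Iso.inv_hom_id_app_assoc (lrIso P hP) A _)

lemma lrHom_comp {A B C : CochainComplex X.Modules ℤ} (f : DCoh.toD X A ⟶ DCoh.toD X B)
    (g : DCoh.toD X B ⟶ DCoh.toD X C) : lrHom P hP (f ≫ g) = lrHom P hP f ≫ lrHom P hP g := by
  simp [lrHom]

lemma isIso_lrHom {A B : CochainComplex X.Modules ℤ} (f : DCoh.toD X A ⟶ DCoh.toD X B) [IsIso f] :
    IsIso (lrHom P hP f) := by
  unfold lrHom
  infer_instance

/-- a natural family on complexes commutes with every morphism of `D(O_X)` -/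
lemma natural_of_Q {C : Type*} [Category* C] (F G : DCoh.D X ⥤ C)
    (φ : ∀ A : CochainComplex X.Modules ℤ, F.obj (DCoh.toD X A) ⟶ G.obj (DCoh.toD X A))
    (hφ : ∀ {A B : CochainComplex X.Modules ℤ} (f : A ⟶ B),
      F.map (DerivedCategory.Q.map f) ≫ φ B = φ A ≫ G.map (DerivedCategory.Q.map f))
    {A B : CochainComplex X.Modules ℤ} (a : DCoh.toD X A ⟶ DCoh.toD X B) :
    F.map a ≫ φ B = φ A ≫ G.map a := by
  obtain ⟨A', s, hs, g, rfl⟩ := DerivedCategory.right_fac a
  have hs' := hs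
  rw [← cancel_epi (F.map (DerivedCategory.Q.map s)), ← Functor.map_comp_assoc, IsIso.hom_inv_id_assoc,
    hφ, ← Category.assoc (F.map (DerivedCategory.Q.map s)), hφ, Category.assoc, ← Functor.map_comp,
    IsIso.hom_inv_id_assoc]

/-- the pairing of `P ⊗ D` with `K` -/
noncomputable def beta {D K N : CochainComplex X.Modules ℤ}
    (ev : DCoh.toD X ((totL (T X) K).obj D) ⟶ DCoh.toD X N) :
    DCoh.toD X ((totL (T X) K).obj ((totR (T X) P).obj D)) ⟶
      DCoh.toD X ((totR (T X) P).obj N) :=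
  DerivedCategory.Q.map (assocT P D K).hom ≫ lrHom P hP ev

/-! ### restriction -/

section Restrict

variable (j : U ⟶ X) [IsOpenImmersion j] (hPU : IsKFlat (T U).flip ((resCx j).obj P))

/-- `rtTot`, typed for the second variable -/
noncomputable def rtR (A : CochainComplex X.Modules ℤ) :
    (totR (T U) ((resCx j).obj P)).obj ((resCx j).obj A) ≅ (resCx j).obj ((totR (T X) P).obj A) :=
  rtTot j P A

lemma lrHom_res {A B : CochainComplex X.Modules ℤ} (a : DCoh.toD X A ⟶ DCoh.toD X B) :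
    lrHom _ hPU (resHom j a) ≫ DerivedCategory.Q.map (rtR P j B).hom =
      DerivedCategory.Q.map (rtR P j A).hom ≫ resHom j (lrHom P hP a) := by
  obtain ⟨A', s, hs, g, rfl⟩ := DerivedCategory.right_fac a
  have hQ : ∀ {A B : CochainComplex X.Modules ℤ} (f : A ⟶ B),
      lrHom _ hPU (resHom j (DerivedCategory.Q.map f)) ≫ DerivedCategory.Q.map (rtR P j B).hom =
        DerivedCategory.Q.map (rtR P j A).hom ≫ resHom j (lrHom P hP (DerivedCategory.Q.map f)) := by
    intro A B f
    rw [resHom_Q, lrHom_Q, lrHom_Q, resHom_Q, ← Functor.map_comp, ← Functor.map_comp]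
    exact congrArg _ (rtTot_natural₂ j P f)
  have : IsIso (lrHom _ hPU (resHom j (DerivedCategory.Q.map s))) := by
    have : IsIso (resHom j (DerivedCategory.Q.map s)) := by
      have := hs
      unfold resHom
      infer_instance
    exact isIso_lrHom _ hPU _
  rw [← cancel_epi (lrHom _ hPU (resHom j (DerivedCategory.Q.map s))), ← Category.assoc,
    ← lrHom_comp, ← resHom_comp, IsIso.hom_inv_id_assoc, hQ, ← Category.assoc, hQ, Category.assoc,
    ← resHom_comp, ← lrHom_comp, IsIso.hom_inv_id_assoc]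

lemma bR_beta {D K N : CochainComplex X.Modules ℤ}
    (ev : DCoh.toD X ((totL (T X) K).obj D) ⟶ DCoh.toD X N) :
    DerivedCategory.Q.map ((totL (T U) ((resCx j).obj K)).map (rtR P j D).hom) ≫ bR j (beta P hP ev) =
      beta _ hPU (bR j ev) ≫ DerivedCategory.Q.map (rtR P j N).hom := by
  have e : (totL (T U) ((resCx j).obj K)).map (rtR P j D).hom ≫
      rtHom j ((totR (T X) P).obj D) K ≫ (resCx j).map (assocT P D K).hom =
      (assocT ((resCx j).obj P) ((resCx j).obj D) ((resCx j).obj K)).hom ≫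
        (totR (T U) ((resCx j).obj P)).map (rtHom j D K) ≫ (rtR P j ((totL (T X) K).obj D)).hom :=
    rtTot_assoc j P D K
  rw [bR, beta, beta, bR, resHom_comp, resHom_Q, lrHom_comp, lrHom_Q, Category.assoc, Category.assoc,
    lrHom_res P hP j hPU ev, ← Functor.map_comp_assoc, ← Functor.map_comp_assoc,
    ← Functor.map_comp_assoc, ← Functor.map_comp_assoc]
  simp only [Category.assoc]
  rw [e]

end Restrict

/-! ### change of `K` -/

/-- `C ⊗ s`, typed as a map of functors of the first variable -/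
noncomputable def tMap (C : CochainComplex X.Modules ℤ) {K' K : CochainComplex X.Modules ℤ}
    (s : K' ⟶ K) : (totL (T X) K').obj C ⟶ (totL (T X) K).obj C :=
  (totR (T X) C).map s

lemma isIso_Q_tMap {C : CochainComplex X.Modules ℤ} (hC : IsKFlat (T X).flip C)
    {K' K : CochainComplex X.Modules ℤ} (s : K' ⟶ K) [QuasiIso s] :
    IsIso (DerivedCategory.Q.map (tMap C s)) :=
  (DerivedCategory.isIso_Q_map_iff_quasiIso _ _).2 (KFlat.quasiIso_totR (T X) hC s)

lemma rep_tMap_iff {K' K : CochainComplex X.Modules ℤ} (hK' : IsKFlat (T X) K')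
    (hK : IsKFlat (T X) K) (s : K' ⟶ K) [QuasiIso s] [DCoh.HasLTensorCx K'] [DCoh.HasLTensorCx K]
    (C : CochainComplex X.Modules ℤ) (hC : IsKFlat (T X).flip C) {M : DCoh.D X}
    (b : DCoh.toD X ((totL (T X) K).obj C) ⟶ M) :
    Rep K' C hC (DerivedCategory.Q.map (tMap C s) ≫ b) ↔ Rep K C hC b :=
  rep_map_iff hK' hK s C hC b

lemma assocT_tMap (P D : CochainComplex X.Modules ℤ) {K' K : CochainComplex X.Modules ℤ}
    (s : K' ⟶ K) :
    tMap ((totR (T X) P).obj D) s ≫ (assocT P D K).hom =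
      (assocT P D K').hom ≫ (totR (T X) P).map (tMap D s) :=
  assocT_natural₃ P D s

lemma beta_map {D K K' N : CochainComplex X.Modules ℤ} (s : K' ⟶ K)
    (ev : DCoh.toD X ((totL (T X) K).obj D) ⟶ DCoh.toD X N) :
    DerivedCategory.Q.map (tMap ((totR (T X) P).obj D) s) ≫ beta P hP ev =
      beta P hP (DerivedCategory.Q.map (tMap D s) ≫ ev) := by
  rw [beta, beta, lrHom_comp, lrHom_Q, ← Category.assoc, ← Category.assoc, ← Functor.map_comp,
    ← Functor.map_comp, assocT_tMap]

/-- the pairing with `P` of a representing pairing represents -/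
def Good (K : CochainComplex X.Modules ℤ) [DCoh.HasLTensorCx K] : Prop :=
  ∀ (D N : CochainComplex X.Modules ℤ) (hD : IsKFlat (T X).flip D)
    (ev : DCoh.toD X ((totL (T X) K).obj D) ⟶ DCoh.toD X N), Rep K D hD ev →
    ∀ (P : CochainComplex X.Modules ℤ) (hP : IsKFlat (T X).flip P),
      Rep K ((totR (T X) P).obj D) (isKFlat_flip_tot hP hD) (beta P hP ev)

lemma good_map_iff {K' K : CochainComplex X.Modules ℤ} (hK' : IsKFlat (T X) K')
    (hK : IsKFlat (T X) K) (s : K' ⟶ K) [QuasiIso s] [DCoh.HasLTensorCx K'] [DCoh.HasLTensorCx K] :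
    Good K' ↔ Good K := by
  constructor
  · intro h D N hD ev hev P hP
    have h' := h D N hD _ ((rep_tMap_iff hK' hK s D hD ev).2 hev) P hP
    rw [← beta_map] at h'
    exact (rep_tMap_iff hK' hK s _ _ _).1 h'
  · intro h D N hD ev hev P hP
    have := isIso_Q_tMap hD s
    have e : DerivedCategory.Q.map (tMap D s) ≫
        (inv (DerivedCategory.Q.map (tMap D s)) ≫ ev) = ev := IsIso.hom_inv_id_assoc _ _
    have h' := h D N hD _ ((rep_tMap_iff hK' hK s D hD _).1 (e.symm ▸ hev)) P hP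
    have h'' := (rep_tMap_iff hK' hK s _ _ _).2 h'
    rw [beta_map, e] at h''
    exact h''

lemma good_congr {K E : CochainComplex X.Modules ℤ} (hK : IsKFlat (T X) K) (hE : IsKFlat (T X) E)
    (e : DCoh.toD X K ≅ DCoh.toD X E) [DCoh.HasLTensorCx K] [DCoh.HasLTensorCx E] (h : Good E) :
    Good K := by
  obtain ⟨A, s, hs, g, hfac⟩ := DerivedCategory.right_fac e.hom
  have hg : IsIso (DerivedCategory.Q.map g) := by
    have : DerivedCategory.Q.map g = DerivedCategory.Q.map s ≫ e.hom := by rw [hfac]; simp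
    rw [this]
    infer_instance
  have hs' := (DerivedCategory.isIso_Q_map_iff_quasiIso _ s).1 hs
  have hg' := (DerivedCategory.isIso_Q_map_iff_quasiIso _ g).1 hg
  let π := (KFlat.flatResolutionAug X).app A
  have : QuasiIso π := KFlat.flatResolution_quasiIso A
  have hA := KFlat.flatResolution_isKFlat A
  have := KFlat.hasLTensorCx ((KFlat.flatResolution X).obj A)
  exact (good_map_iff hA hK (π ≫ s)).1 ((good_map_iff hA hE (π ≫ g)).2 h)

/-! ### the case of a complex with a dual -/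

section Dual

variable {E : CochainComplex X.Modules ℤ} (δ : DualCx E)

/-- the evaluation of complexes -/
noncomputable def coev (M : CochainComplex X.Modules ℤ) :
    (totL (T X) E).obj ((totL (T X) δ.V).obj M) ⟶ M :=
  transpose δ _ M (𝟙 _)

lemma transpose_eq (Q' M : CochainComplex X.Modules ℤ) (a : Q' ⟶ (totL (T X) δ.V).obj M) :
    transpose δ Q' M a = (totL (T X) E).map a ≫ coev δ M :=
  (congrArg _ (Category.comp_id a).symm).trans (transpose_left δ _ M a (𝟙 _))

lemma coev_linear (P N : CochainComplex X.Modules ℤ) :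
    (totL (T X) E).map (assocT P N δ.V).inv ≫ coev δ ((totR (T X) P).obj N) =
      (assocT P ((totL (T X) δ.V).obj N) E).hom ≫ (totR (T X) P).map (coev δ N) := by
  rw [← transpose_eq]
  refine Eq.trans ?_ (transpose_linear δ P ((totL (T X) δ.V).obj N) N (𝟙 _))
  refine congrArg _ ?_
  exact ((congrArg (· ≫ (assocT P N δ.V).inv) ((totR (T X) P).map_id _)).trans (Category.id_comp _)).symm

variable (hE : IsKFlat (T X) E) (hV : IsKFlat (T X) δ.V) [DCoh.HasLTensorCx E] [DCoh.HasLTensorCx δ.V]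

lemma derived_counit (M : CochainComplex X.Modules ℤ) :
    (derivedTotAdj δ hE hV).counit.app (DCoh.toD X M) =
      (DCoh.LTensorCx E).map ((KFlat.ltcxNatIso δ.V hV).hom.app M) ≫
        (KFlat.ltcxNatIso E hE).hom.app ((totL (T X) δ.V).obj M) ≫
          DerivedCategory.Q.map (coev δ M) := by
  letI : CatCommSq (totL (T X) E) DerivedCategory.Q DerivedCategory.Q (DCoh.LTensorCx E) :=
    ⟨(KFlat.ltcxNatIso E hE).symm⟩
  letI : CatCommSq (totL (T X) δ.V) DerivedCategory.Q DerivedCategory.Q (DCoh.LTensorCx δ.V) :=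
    ⟨(KFlat.ltcxNatIso δ.V hV).symm⟩
  refine (Adjunction.Localization.η_app (L₁ := DerivedCategory.Q) (L₂ := DerivedCategory.Q)
    (W₂ := HomologicalComplex.quasiIso X.Modules up) (G' := DCoh.LTensorCx E)
    (F' := DCoh.LTensorCx δ.V) (totAdj δ) M).trans ?_
  rfl

/-- `P ⊗ -` commutes with `- ⊗ E` on morphisms -/
lemma assoc_lrHom {A B : CochainComplex X.Modules ℤ} (a : DCoh.toD X A ⟶ DCoh.toD X B) :
    (DCoh.LTensorCx E).map (lrHom P hP a) ≫ (KFlat.ltcxNatIso E hE).hom.app ((totR (T X) P).obj B) ≫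
        DerivedCategory.Q.map (assocT P B E).hom =
      (KFlat.ltcxNatIso E hE).hom.app ((totR (T X) P).obj A) ≫
        DerivedCategory.Q.map (assocT P A E).hom ≫
          lrHom P hP ((KFlat.ltcxNatIso E hE).inv.app A ≫ (DCoh.LTensorCx E).map a ≫
            (KFlat.ltcxNatIso E hE).hom.app B) := by
  let ι := KFlat.ltcxNatIso E hE
  obtain ⟨A', s, hs, g, rfl⟩ := DerivedCategory.right_fac a
  have hQ : ∀ {A B : CochainComplex X.Modules ℤ} (f : A ⟶ B),
      (DCoh.LTensorCx E).map (lrHom P hP (DerivedCategory.Q.map f)) ≫ ι.hom.app _ ≫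
          DerivedCategory.Q.map (assocT P B E).hom =
        ι.hom.app _ ≫ DerivedCategory.Q.map (assocT P A E).hom ≫
          lrHom P hP (ι.inv.app A ≫ (DCoh.LTensorCx E).map (DerivedCategory.Q.map f) ≫ ι.hom.app B) := by
    intro A B f
    have n₁ : (DCoh.LTensorCx E).map (DerivedCategory.Q.map ((totR (T X) P).map f)) ≫ ι.hom.app _ =
        ι.hom.app _ ≫ DerivedCategory.Q.map ((totL (T X) E).map ((totR (T X) P).map f)) :=
      ι.hom.naturality ((totR (T X) P).map f)
    have n₂ : ι.inv.app A ≫ (DCoh.LTensorCx E).map (DerivedCategory.Q.map f) ≫ ι.hom.app B =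
        DerivedCategory.Q.map ((totL (T X) E).map f) := by
      refine (congrArg (ι.inv.app A ≫ ·) (ι.hom.naturality f)).trans ?_
      exact ι.inv_hom_id_app_assoc A _
    rw [lrHom_Q, n₂, lrHom_Q, reassoc_of% n₁, ← Functor.map_comp, ← Functor.map_comp,
      assocT_natural₂]
  have : IsIso ((DCoh.LTensorCx E).map (lrHom P hP (DerivedCategory.Q.map s))) := by
    have := hs
    have := isIso_lrHom P hP (DerivedCategory.Q.map s)
    infer_instance
  rw [← cancel_epi ((DCoh.LTensorCx E).map (lrHom P hP (DerivedCategory.Q.map s))),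
    ← Functor.map_comp_assoc, ← lrHom_comp, IsIso.hom_inv_id_assoc, hQ,
    reassoc_of% (hQ s), ← lrHom_comp]
  congr 3
  simp only [Category.assoc]
  have e₁ : ∀ {Z : DCoh.D X} (h : (DCoh.LTensorCx E).obj (DCoh.toD X A) ⟶ Z),
      ι.hom.app A ≫ ι.inv.app A ≫ h = h := fun h => ι.hom_inv_id_app_assoc A h
  refine congrArg (ι.inv.app A' ≫ ·) ?_
  refine Eq.trans ?_ (congrArg ((DCoh.LTensorCx E).map (DerivedCategory.Q.map s) ≫ ·) (e₁ _).symm)
  rw [← Functor.map_comp_assoc, IsIso.hom_inv_id_assoc]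

include δ hV hE in
theorem good_of_dual : Good E := by
  intro D N hD ev hev P hP
  let adj := derivedTotAdj δ hE hV
  let ιV := KFlat.ltcxNatIso δ.V hV
  let ιE := KFlat.ltcxNatIso E hE
  rw [rep_iff E adj] at hev ⊢
  let c : DCoh.toD X D ⟶ DCoh.toD X ((totL (T X) δ.V).obj N) :=
    adj.homEquiv _ _ ((iot E D hD).hom ≫ ev) ≫ ιV.hom.app N
  have hc : (DCoh.LTensorCx E).map c ≫ ιE.hom.app ((totL (T X) δ.V).obj N) ≫
      DerivedCategory.Q.map (coev δ N) = (iot E D hD).hom ≫ ev := by
    refine Eq.trans ?_ (Equiv.symm_apply_apply (adj.homEquiv _ _) _)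
    rw [Adjunction.homEquiv_counit, derived_counit δ hE hV N]
    exact (congrArg (· ≫ _) (Functor.map_comp _ _ _)).trans (Category.assoc _ _ _)
  let N' := (totR (T X) P).obj N
  let d : DCoh.toD X ((totR (T X) P).obj D) ⟶ DCoh.toD X ((totL (T X) δ.V).obj N') :=
    lrHom P hP c ≫ DerivedCategory.Q.map (assocT P N δ.V).inv
  let y : DCoh.toD X ((totR (T X) P).obj D) ⟶ (DCoh.LTensorCx δ.V).obj (DCoh.toD X N') :=
    d ≫ ιV.inv.app N'
  have hy : adj.homEquiv (DCoh.toD X ((totR (T X) P).obj D)) (DCoh.toD X N')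
      ((iot E ((totR (T X) P).obj D) (isKFlat_flip_tot hP hD)).hom ≫ beta P hP ev) = y := by
    rw [Equiv.apply_eq_iff_eq_symm_apply, Adjunction.homEquiv_counit, derived_counit δ hE hV]
    have i₀ : y ≫ ιV.hom.app N' = d :=
      (Category.assoc _ _ _).trans ((congrArg (d ≫ ·) (ιV.inv_hom_id_app N')).trans (Category.comp_id _))
    have i₁ : (DCoh.LTensorCx E).map y ≫ (DCoh.LTensorCx E).map (ιV.hom.app N') =
        (DCoh.LTensorCx E).map (lrHom P hP c) ≫
          (DCoh.LTensorCx E).map (DerivedCategory.Q.map (assocT P N δ.V).inv) :=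
      ((Functor.map_comp _ _ _).symm.trans (congrArg _ i₀)).trans (Functor.map_comp _ _ _)
    have i₂ : (DCoh.LTensorCx E).map (DerivedCategory.Q.map (assocT P N δ.V).inv) ≫
        ιE.hom.app ((totL (T X) δ.V).obj N') =
        ιE.hom.app ((totR (T X) P).obj ((totL (T X) δ.V).obj N)) ≫
          DerivedCategory.Q.map ((totL (T X) E).map (assocT P N δ.V).inv) :=
      ιE.hom.naturality (assocT P N δ.V).inv
    refine Eq.symm ?_
    refine (Category.assoc _ _ _).symm.trans ?_
    rw [i₁, Category.assoc, reassoc_of% i₂, ← DerivedCategory.Q.map_comp, coev_linear,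
      DerivedCategory.Q.map_comp, reassoc_of% (assoc_lrHom P hP hE c), ← lrHom_Q P hP,
      ← lrHom_comp]
    refine congrArg (ιE.hom.app _ ≫ ·) ?_
    rw [beta]
    refine congrArg (_ ≫ lrHom P hP ·) ?_
    rw [Category.assoc, Category.assoc, hc]
    exact (ιE.inv_hom_id_app_assoc D ev)
  rw [hy]
  have : IsIso c := by
    have := hev
    exact IsIso.comp_isIso
  have := isIso_lrHom P hP c
  exact IsIso.comp_isIso

end Dual

/-! ### the global statement -/

/-- restriction preserves K-flatness on the left -/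
lemma isKFlat_flip_resCx (j : U ⟶ X) [IsOpenImmersion j] {C : CochainComplex X.Modules ℤ}
    (hC : IsKFlat (T X).flip C) : IsKFlat (T U).flip ((resCx j).obj C) := by
  rw [KFlat.isKFlat_flip_iff] at hC ⊢
  intro M hM i
  let M' := (ezCx j).obj M
  have : ∀ n, IsIso ((CxOX.extZeroAdj j).unit.app (M.X n)) := fun n => ExtZero.isIso_unit j _
  let e : M ≅ (resCx j).obj M' :=
    HomologicalComplex.Hom.isoOfComponents
      (fun n => @asIso _ _ _ _ ((CxOX.extZeroAdj j).unit.app (M.X n)) (ExtZero.isIso_unit j _))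
      fun n m _ => ((CxOX.extZeroAdj j).unit.naturality (M.d n m)).symm
  have hM' : M'.Acyclic := fun k => (hM k).map (CxOX.extZero j)
  have h : ((resCx j).obj (tot (T X) C M')).ExactAt i :=
    (hC M' hM' i).map (Scheme.Modules.restrictFunctor j)
  exact h.of_iso ((rtTot j C M').symm ≪≫ ((totR (T U) ((resCx j).obj C)).mapIso e.symm))

/-- the pairing with `P` of a restricted representing pairing represents -/
lemma rep_bR_beta (j : U ⟶ X) [IsOpenImmersion j] {K D N : CochainComplex X.Modules ℤ}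
    [DCoh.HasLTensorCx ((resCx j).obj K)] (ev : DCoh.toD X ((totL (T X) K).obj D) ⟶ DCoh.toD X N)
    (hD : IsKFlat (T X).flip D) (hg : Good ((resCx j).obj K))
    (h₁ : Rep ((resCx j).obj K) ((resCx j).obj D) (isKFlat_flip_resCx j hD) (bR j ev)) :
    Rep ((resCx j).obj K) ((resCx j).obj ((totR (T X) P).obj D))
      (isKFlat_flip_resCx j (isKFlat_flip_tot hP hD)) (bR j (beta P hP ev)) := by
  have hPU := isKFlat_flip_resCx j hP
  have h₂ := hg _ _ (isKFlat_flip_resCx j hD) _ h₁ _ hPU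
  let b := bR j (beta P hP ev)
  let t := (totL (T U) ((resCx j).obj K)).mapIso (rtR P j D)
  have e₁ : DerivedCategory.Q.map t.inv ≫ beta _ hPU (bR j ev) ≫
      DerivedCategory.Q.map (rtR P j N).hom = b := by
    refine (congrArg (DerivedCategory.Q.map t.inv ≫ ·) (bR_beta P hP j hPU ev).symm).trans ?_
    refine (Functor.map_comp_assoc DerivedCategory.Q _ _ _).symm.trans ?_
    exact (congrArg (· ≫ b) ((congrArg DerivedCategory.Q.map t.inv_hom_id).trans
      (DerivedCategory.Q.map_id _))).trans (Category.id_comp _)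
  have h₃ : Rep ((resCx j).obj K) ((resCx j).obj ((totR (T X) P).obj D))
      (isKFlat_flip_resCx j (isKFlat_flip_tot hP hD)) (DerivedCategory.Q.map t.inv ≫ beta _ hPU (bR j ev) ≫
        DerivedCategory.Q.map (rtR P j N).hom) :=
    rep_of_iso _ (isKFlat_flip_resCx j (isKFlat_flip_tot hP hD)) (rtR P j D).symm
      (DerivedCategory.Q.mapIso (rtR P j N)) h₂
  rw [e₁] at h₃
  exact h₃

/-- the pairing with `P` of a representing pairing represents, for perfect `K` -/
theorem good_of_isPerfect (K : CochainComplex X.Modules ℤ) (hK : IsKFlat (T X) K)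
    (hKp : DCoh.IsPerfect (DCoh.toD X K)) [DCoh.HasLTensorCx K] [DCoh.HasRSheafHom K]
    {D N : CochainComplex X.Modules ℤ} (hD : IsKFlat (T X).flip D)
    (ev : DCoh.toD X ((totL (T X) K).obj D) ⟶ DCoh.toD X N)
    (hev : IsIso ((DCoh.RSheafHomAdj K).homEquiv _ _ ((iot K D hD).hom ≫ ev)))
    (P : CochainComplex X.Modules ℤ) (hP : IsKFlat (T X).flip P) :
    IsIso ((DCoh.RSheafHomAdj K).homEquiv _ _
      ((iot K _ (isKFlat_flip_tot hP hD)).hom ≫ beta P hP ev)) := by
  refine isIso_of_local _ fun x => ?_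
  obtain ⟨V, E, hx, hE, ⟨δ⟩, ⟨e⟩⟩ := exists_local_dual K hKp x
  refine ⟨V, hx, ?_⟩
  have hflip : ∀ {C : CochainComplex X.Modules ℤ}, IsKFlat (T X).flip C →
      IsKFlat (T _).flip ((resCx V.ι).obj C) := fun hC => isKFlat_flip_resCx V.ι hC
  have hPU := hflip hP
  have := KFlat.hasLTensorCx ((resCx V.ι).obj K)
  have := KFlat.hasLTensorCx E
  have := KFlat.hasLTensorCx δ.V
  have hEf := PCoh.isKFlat_of_isStrictlyPerfect hE
  have hg : Good ((resCx V.ι).obj K) := good_congr (PCoh.isKFlat_rc V.ι hK) hEf e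
    (good_of_dual δ hEf (PCoh.isKFlat_of_isStrictlyPerfect δ.isStrictlyPerfect))
  have h₁ : Rep _ _ (hflip hD) (bR V.ι ev) :=
    (restrict_isIso_iff V.ι K hD (hflip hD) ev).1 (have := hev; inferInstance)
  exact (restrict_isIso_iff V.ι K _ (hflip (isKFlat_flip_tot hP hD)) _).2
    (rep_bR_beta P hP V.ι ev hD hg h₁)

/-- `P ⊗ O ≅ P` -/
noncomputable def totUnitIso :
    tot (T X) P ((single X.Modules up 0).obj (Coh.structureModule X)) ≅ P :=
  (mapBifunctorFlipIso P ((single X.Modules up 0).obj (Coh.structureModule X)) (T X) up).symm ≪≫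
    KFlat.totSingleIso (T X).flip (Coh.structureModule X) P ≪≫
    HomologicalComplex.Hom.isoOfComponents (fun n => rho (P.X n))
      fun n m _ => (rho_natural (P.d n m)).symm

/-- `M ⊗^L D ≅ RHom(K, M)` for perfect `K` and `D` representing `RHom(K, O)` -/
theorem nonempty_ltensor_dual_iso (K : CochainComplex X.Modules ℤ) (hK : IsKFlat (T X) K)
    (hKp : DCoh.IsPerfect (DCoh.toD X K)) [DCoh.HasLTensorCx K] [DCoh.HasRSheafHom K]
    (D : CochainComplex X.Modules ℤ) (hD : IsKFlat (T X) D)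
    (eD : DCoh.toD X D ≅ (DCoh.RSheafHom K).obj
      ((DerivedCategory.singleFunctor X.Modules 0).obj (Coh.structureModule X)))
    [DCoh.HasLTensorCx D] (M : DCoh.D X) :
    Nonempty ((DCoh.LTensorCx D).obj M ≅ (DCoh.RSheafHom K).obj M) := by
  let N := (single X.Modules up 0).obj (Coh.structureModule X)
  let D₀ := (KFlat.flatResolution X).obj D
  have hD₀ := KFlat.flatResolution_isKFlat_flip D
  have hD₀' := KFlat.flatResolution_isKFlat D
  have : IsIso (DerivedCategory.Q.map ((KFlat.flatResolutionAug X).app D)) :=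
    (DerivedCategory.isIso_Q_map_iff_quasiIso _ _).2 (KFlat.flatResolution_quasiIso D)
  let eN : (DerivedCategory.singleFunctor X.Modules 0).obj (Coh.structureModule X) ≅ DCoh.toD X N :=
    (DerivedCategory.singleFunctorIsoCompQ X.Modules 0).app _
  let e : DCoh.toD X D₀ ≅ (DCoh.RSheafHom K).obj (DCoh.toD X N) :=
    asIso (DerivedCategory.Q.map ((KFlat.flatResolutionAug X).app D)) ≪≫ eD ≪≫
      (DCoh.RSheafHom K).mapIso eN
  let ev : DCoh.toD X ((totL (T X) K).obj D₀) ⟶ DCoh.toD X N :=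
    (iot K D₀ hD₀).inv ≫ ((DCoh.RSheafHomAdj K).homEquiv _ _).symm e.hom
  have hev : IsIso ((DCoh.RSheafHomAdj K).homEquiv _ _ ((iot K D₀ hD₀).hom ≫ ev)) := by
    rw [Iso.hom_inv_id_assoc, Equiv.apply_symm_apply]
    infer_instance
  obtain ⟨F, ⟨eF⟩⟩ := exists_rep M
  let P := (KFlat.flatResolution X).obj F
  have hP := KFlat.flatResolution_isKFlat_flip F
  have : IsIso (DerivedCategory.Q.map ((KFlat.flatResolutionAug X).app F)) :=
    (DerivedCategory.isIso_Q_map_iff_quasiIso _ _).2 (KFlat.flatResolution_quasiIso F)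
  let eM : DCoh.toD X P ≅ M := asIso (DerivedCategory.Q.map ((KFlat.flatResolutionAug X).app F)) ≪≫ eF
  have := good_of_isPerfect K hK hKp hD₀ ev hev P hP
  have := KFlat.hasLTensorCx D₀
  obtain ⟨cD⟩ := nonempty_ltcx_congr hD hD₀'
    (asIso (DerivedCategory.Q.map ((KFlat.flatResolutionAug X).app D))).symm
  exact ⟨cD.app M ≪≫ (DCoh.LTensorCx D₀).mapIso eM.symm ≪≫ KFlat.ltcxIso D₀ hD₀' P ≪≫
    asIso ((DCoh.RSheafHomAdj K).homEquiv _ _ ((iot K _ (isKFlat_flip_tot hP hD₀)).hom ≫ beta P hP ev)) ≪≫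
    (DCoh.RSheafHom K).mapIso (DerivedCategory.Q.mapIso (totUnitIso P) ≪≫ eM)⟩

end Groth.DerivedCoh.Duality
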