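import Groth.Agent.DerivedCoh.Duality.Biduality

/-!
`RHom(L, M) ⊗^L K ≅ RHom(RHom(K, L), M)` for perfect `K`.
-/

universe u

open CategoryTheory CategoryTheory.Limits AlgebraicGeometry HomologicalComplex

namespace Groth.DerivedCoh.Duality

open Groth.DerivedCoh.KFlat (T IsKFlat tot totL totR)
open Groth.KTheory.Perf (exists_rep)

attribute [local instance] HasDerivedCategory.standard

variable {X : Scheme.{u}}

local notation "up" => ComplexShape.up ℤ

/-- `- ⊗^L K` only depends on `K` up to quasi-isomorphism, for every `K` -/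
noncomputable def ltcxMapIso' {K E : CochainComplex X.Modules ℤ} (s : K ⟶ E) [QuasiIso s]
    [DCoh.HasLTensorCx K] [DCoh.HasLTensorCx E] : DCoh.LTensorCx K ≅ DCoh.LTensorCx E :=
  haveI : ∀ P, IsIso ((Functor.whiskerLeft (KFlat.flatResolution X)
      (Functor.whiskerRight ((DCoh.tensorCx (X := X)).flip.map s) DerivedCategory.Q)).app P) :=
    fun P => (DerivedCategory.isIso_Q_map_iff_quasiIso _ _).2
      (KFlat.quasiIso_totR (T X) (KFlat.flatResolution_isKFlat_flip P) s)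
  haveI := NatIso.isIso_of_isIso_app (Functor.whiskerLeft (KFlat.flatResolution X)
    (Functor.whiskerRight ((DCoh.tensorCx (X := X)).flip.map s) DerivedCategory.Q))
  Localization.liftNatIso DerivedCategory.Q (HomologicalComplex.quasiIso X.Modules up)
    (DerivedCategory.Q ⋙ DCoh.LTensorCx K) (DerivedCategory.Q ⋙ DCoh.LTensorCx E) _ _
    (KFlat.ltcxResIso K ≪≫
      asIso (Functor.whiskerLeft (KFlat.flatResolution X)
        (Functor.whiskerRight ((DCoh.tensorCx (X := X)).flip.map s) DerivedCategory.Q)) ≪≫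
      (KFlat.ltcxResIso E).symm)

/-- `RHom(L, M) ⊗^L K ≅ RHom(D, M)` for perfect `K` and `D` representing `RHom(K, L)` -/
theorem nonempty_rhom_tensor (K L : CochainComplex X.Modules ℤ) (hK : IsKFlat (T X) K)
    (hKp : DCoh.IsPerfect (DCoh.toD X K)) [DCoh.HasLTensorCx K] [DCoh.HasRSheafHom K]
    [DCoh.HasLTensorCx L] [DCoh.HasRSheafHom L] (D : CochainComplex X.Modules ℤ) (hD : IsKFlat (T X) D)
    (eD : DCoh.toD X D ≅ (DCoh.RSheafHom K).obj (DCoh.toD X L))
    [DCoh.HasLTensorCx D] [DCoh.HasRSheafHom D] (M : DCoh.D X) :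
    Nonempty ((DCoh.LTensorCx K).obj ((DCoh.RSheafHom L).obj M) ≅ (DCoh.RSheafHom D).obj M) := by
  let L' := (KFlat.flatResolution X).obj L
  let π : L' ⟶ L := (KFlat.flatResolutionAug X).app L
  have : QuasiIso π := KFlat.flatResolution_quasiIso L
  have hL' := KFlat.flatResolution_isKFlat L
  have := KFlat.hasLTensorCx L'
  let adjL := (DCoh.RSheafHomAdj L).ofNatIsoLeft (ltcxMapIso' π).symm
  -- the dual of `K`
  obtain ⟨F, ⟨eF⟩⟩ := exists_rep ((DCoh.RSheafHom K).obj
    ((DerivedCategory.singleFunctor X.Modules 0).obj (Coh.structureModule X)))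
  let K' := (KFlat.flatResolution X).obj F
  have hK' := KFlat.flatResolution_isKFlat F
  have : IsIso (DerivedCategory.Q.map ((KFlat.flatResolutionAug X).app F)) :=
    (DerivedCategory.isIso_Q_map_iff_quasiIso _ _).2 (KFlat.flatResolution_quasiIso F)
  have := KFlat.hasLTensorCx K'
  let eK : DCoh.toD X K' ≅ (DCoh.RSheafHom K).obj
      ((DerivedCategory.singleFunctor X.Modules 0).obj (Coh.structureModule X)) :=
    asIso (DerivedCategory.Q.map ((KFlat.flatResolutionAug X).app F)) ≪≫ eF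
  let eK' : DCoh.toD X K' ≅ (DCoh.RSheafHom K).obj (DCoh.toD X (unitN X)) :=
    eK ≪≫ (DCoh.RSheafHom K).mapIso ((DerivedCategory.singleFunctorIsoCompQ X.Modules 0).app _)
  let b : DCoh.toD X ((totL (T X) K).obj K') ⟶ DCoh.toD X (unitN X) :=
    (iot K K' (isKFlat_flip hK')).inv ≫ ((DCoh.RSheafHomAdj K).homEquiv _ _).symm eK'.hom
  have hb : IsIso ((DCoh.RSheafHomAdj K).homEquiv _ _ ((iot K K' (isKFlat_flip hK')).hom ≫ b)) := by
    rw [Iso.hom_inv_id_assoc, Equiv.apply_symm_apply]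
    infer_instance
  -- `RHom(K, L)` as a tensor product
  obtain ⟨c₁⟩ := nonempty_ltensor_dual_iso K hK hKp K' hK' eK (DCoh.toD X L)
  let W := tot (T X) K' L'
  have hW : IsKFlat (T X) W :=
    isKFlat_of_flip (isKFlat_flip_tot (isKFlat_flip hK') (isKFlat_flip hL'))
  have := KFlat.hasLTensorCx W
  have : IsIso (DerivedCategory.Q.map π) :=
    (DerivedCategory.isIso_Q_map_iff_quasiIso _ _).2 inferInstance
  let eW : DCoh.toD X W ≅ DCoh.toD X D :=
    DerivedCategory.Q.mapIso (brIso K' L') ≪≫ (KFlat.ltcxIso K' hK' L').symm ≪≫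
      (DCoh.LTensorCx K').mapIso (asIso (DerivedCategory.Q.map π)) ≪≫ c₁ ≪≫ eD.symm
  obtain ⟨cW⟩ := nonempty_ltcx_congr hW hD eW
  let c : DCoh.LTensorCx K' ⋙ DCoh.LTensorCx L' ≅ DCoh.LTensorCx D :=
    KFlat.ltcxComp K' L' hL' ≪≫ cW
  -- a flat model of `RHom(L, M)`
  obtain ⟨G, ⟨eG⟩⟩ := exists_rep ((DCoh.RSheafHom L).obj M)
  let P := (KFlat.flatResolution X).obj G
  have hP := KFlat.flatResolution_isKFlat_flip G
  have : IsIso (DerivedCategory.Q.map ((KFlat.flatResolutionAug X).app G)) :=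
    (DerivedCategory.isIso_Q_map_iff_quasiIso _ _).2 (KFlat.flatResolution_quasiIso G)
  let eP : DCoh.toD X P ≅ (DCoh.RSheafHom L).obj M :=
    asIso (DerivedCategory.Q.map ((KFlat.flatResolutionAug X).app G)) ≪≫ eG
  let eY : DCoh.toD X ((totR (T X) P).obj (unitN X)) ≅ (DCoh.RSheafHom L).obj M :=
    DerivedCategory.Q.mapIso (totUnitIso P) ≪≫ eP
  let Φ : ∀ S : DCoh.D X, ((DCoh.LTensorCx K').obj S ⟶
      DCoh.toD X ((totR (T X) P).obj (unitN X))) ≃ (S ⟶ (DCoh.RSheafHom D).obj M) := fun S =>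
    (Iso.homToEquiv eY).trans ((adjL.homEquiv _ M).symm.trans
      ((Iso.homFromEquiv (c.app S)).trans ((DCoh.RSheafHomAdj D).homEquiv S M)))
  have hΦ : ∀ {S' S : DCoh.D X} (f : S' ⟶ S) (g : (DCoh.LTensorCx K').obj S ⟶ _),
      Φ S' ((DCoh.LTensorCx K').map f ≫ g) = f ≫ Φ S g := by
    intro S' S f g
    change (DCoh.RSheafHomAdj D).homEquiv S' M (c.inv.app S' ≫ (adjL.homEquiv _ M).symm
        (((DCoh.LTensorCx K').map f ≫ g) ≫ eY.hom)) =
      f ≫ (DCoh.RSheafHomAdj D).homEquiv S M (c.inv.app S ≫ (adjL.homEquiv _ M).symm (g ≫ eY.hom))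
    rw [← Adjunction.homEquiv_naturality_left, Category.assoc,
      Adjunction.homEquiv_naturality_left_symm]
    refine congrArg _ ?_
    rw [← Category.assoc, ← Category.assoc, c.inv.naturality f]
    rfl
  exact ⟨(DCoh.LTensorCx K).mapIso eP.symm ≪≫ KFlat.ltcxIso K hK P ≪≫
    @asIso _ _ _ _ (Φ _ ((iot K' ((totR (T X) P).obj K) (isKFlat_flip_tot hP (isKFlat_flip hK))).hom ≫
      beta P hP (DerivedCategory.Q.map (brL K K') ≫ b))) (isIso_beta_flip K hK hKp K' hK' b hb P hP Φ hΦ)⟩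

end Groth.DerivedCoh.Duality
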