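import Groth.Agent.DerivedCoh.Duality.CxDual
import Groth.Agent.DerivedCoh.ExtZero.Projection
import Groth.Agent.DerivedCoh.PCoh.TensorPerfect
import Groth.Agent.KTheory.PerfFree

/-!
Locally, `RHom(K, -)` of a perfect complex is the tensor product with a dual complex.
-/

universe u

open CategoryTheory CategoryTheory.Limits AlgebraicGeometry HomologicalComplex ZeroObject
open Groth.KTheory.Perf

namespace Groth.DerivedCoh.Duality

open Groth.DerivedCoh.KFlat (T IsKFlat tot totL totR)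

attribute [local instance] HasDerivedCategory.standard

variable {X : Scheme.{u}}

local notation "up" => ComplexShape.up ℤ

/-- `- ⊗^L K` only depends on `K` up to quasi-isomorphism -/
noncomputable def ltcxMapIso {K E : CochainComplex X.Modules ℤ} (hK : IsKFlat (T X) K)
    (hE : IsKFlat (T X) E) (s : K ⟶ E) [QuasiIso s] [DCoh.HasLTensorCx K] [DCoh.HasLTensorCx E] :
    DCoh.LTensorCx K ≅ DCoh.LTensorCx E :=
  haveI : ∀ P, IsIso ((Functor.whiskerRight ((DCoh.tensorCx (X := X)).flip.map s)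
      DerivedCategory.Q).app P) := fun P => by
    have : QuasiIso ((KFlat.flatResolutionAug X).app P) := KFlat.flatResolution_quasiIso P
    exact (DerivedCategory.isIso_Q_map_iff_quasiIso _ _).2
      (hK.quasiIso_totR hE s ((KFlat.flatResolutionAug X).app P) (KFlat.flatResolution_isKFlat_flip P))
  haveI := NatIso.isIso_of_isIso_app (Functor.whiskerRight ((DCoh.tensorCx (X := X)).flip.map s)
    DerivedCategory.Q)
  Localization.liftNatIso DerivedCategory.Q (HomologicalComplex.quasiIso X.Modules up)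
    (DerivedCategory.Q ⋙ DCoh.LTensorCx K) (DerivedCategory.Q ⋙ DCoh.LTensorCx E) _ _
    (KFlat.ltcxNatIso K hK ≪≫
      asIso (Functor.whiskerRight ((DCoh.tensorCx (X := X)).flip.map s) DerivedCategory.Q) ≪≫
      (KFlat.ltcxNatIso E hE).symm)

/-- `- ⊗^L K` only depends on the class of `K` in `D(O_X)` -/
theorem nonempty_ltcx_congr {K E : CochainComplex X.Modules ℤ} (hK : IsKFlat (T X) K)
    (hE : IsKFlat (T X) E) (e : DCoh.toD X K ≅ DCoh.toD X E) [DCoh.HasLTensorCx K]
    [DCoh.HasLTensorCx E] : Nonempty (DCoh.LTensorCx K ≅ DCoh.LTensorCx E) := by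
  obtain ⟨A, s, hs, g, hfac⟩ := DerivedCategory.right_fac e.hom
  have hg : IsIso (DerivedCategory.Q.map g) := by
    have : DerivedCategory.Q.map g = DerivedCategory.Q.map s ≫ e.hom := by rw [hfac]; simp
    rw [this]
    infer_instance
  have hs' := (DerivedCategory.isIso_Q_map_iff_quasiIso _ s).1 hs
  have hg' := (DerivedCategory.isIso_Q_map_iff_quasiIso _ g).1 hg
  let π := (KFlat.flatResolutionAug X).app A
  have : QuasiIso π := KFlat.flatResolution_quasiIso A
  have hA := KFlat.flatResolution_isKFlat A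
  have := KFlat.hasLTensorCx ((KFlat.flatResolution X).obj A)
  exact ⟨(ltcxMapIso hA hK (π ≫ s)).symm ≪≫ ltcxMapIso hA hE (π ≫ g)⟩

/-- a local model of a perfect complex -/
theorem exists_local_dual (K : CochainComplex X.Modules ℤ) (hKp : DCoh.IsPerfect (DCoh.toD X K))
    (x : X) :
    ∃ (V : X.Opens) (E : CochainComplex (V : Scheme.{u}).Modules ℤ), x ∈ V ∧
      DCoh.IsStrictlyPerfect E ∧ Nonempty (DualCx E) ∧
      Nonempty (DCoh.toD _ ((ExtZero.resCx V.ι).obj K) ≅ DCoh.toD _ E) := by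
  obtain ⟨V, hx, hV⟩ := (isPerfect_iff_free _).1 hKp x
  obtain ⟨P, a, b, hab, hfree, ⟨e⟩⟩ := hV K ⟨Iso.refl _⟩
  refine ⟨V, P, hx, ⟨⟨a, b, hab⟩, fun i => ?_⟩, ?_, ⟨e⟩⟩
  · obtain ⟨n, ⟨f⟩⟩ := hfree i
    exact Groth.KTheory.LocFree.isFinLocFree_of_iso f.symm (Groth.LocFree.isFinLocFree_freeMod _ n)
  · exact ⟨dualCxOf P a b hab fun q => (show Nonempty (DP (P.X q)) from by
      obtain ⟨n, ⟨f⟩⟩ := hfree q
      exact nonempty_dp_free f).some⟩

/-- `RHom(K, -)` near a point, for perfect `K` -/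
theorem exists_local_rhom (K : CochainComplex X.Modules ℤ) (hK : IsKFlat (T X) K)
    (hKp : DCoh.IsPerfect (DCoh.toD X K)) [DCoh.HasLTensorCx K] [DCoh.HasRSheafHom K] (x : X) :
    ∃ (V : X.Opens) (E : CochainComplex (V : Scheme.{u}).Modules ℤ) (δ : DualCx E)
      (_ : DCoh.HasLTensorCx δ.V), x ∈ V ∧
      Nonempty (DCoh.RSheafHom K ⋙ DCoh.restrictD V.ι ≅
        DCoh.restrictD V.ι ⋙ DCoh.LTensorCx δ.V) := by
  obtain ⟨V, E, hx, hE, ⟨δ⟩, ⟨e⟩⟩ := exists_local_dual K hKp x
  have hKV : IsKFlat (T _) ((ExtZero.resCx V.ι).obj K) := PCoh.isKFlat_rc V.ι hK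
  have hEf : IsKFlat (T _) E := PCoh.isKFlat_of_isStrictlyPerfect hE
  have := KFlat.hasLTensorCx ((ExtZero.resCx V.ι).obj K)
  have := KFlat.hasLTensorCx E
  have := KFlat.hasLTensorCx δ.V
  obtain ⟨c⟩ := nonempty_ltcx_congr hKV hEf e
  let adj : DCoh.LTensorCx ((ExtZero.resCx V.ι).obj K) ⊣ DCoh.LTensorCx δ.V :=
    (derivedTotAdj δ hEf (PCoh.isKFlat_of_isStrictlyPerfect δ.isStrictlyPerfect)).ofNatIsoLeft c.symm
  have := adj.isLeftAdjoint
  exact ⟨V, E, δ, inferInstance, hx, ⟨ExtZero.restrRHomIso V.ι K ≪≫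
    Functor.isoWhiskerLeft _ ((DCoh.RSheafHomAdj ((ExtZero.resCx V.ι).obj K)).rightAdjointUniq adj)⟩⟩

lemma isStrictlyPerfect_single {N : X.Modules} (h : FlatMod.IsFinLocFree N) (i : ℤ) :
    DCoh.IsStrictlyPerfect ((HomologicalComplex.single X.Modules up i).obj N) := by
  refine ⟨⟨i, i, fun n hn => isZero_single_obj_X _ _ _ _ (by omega)⟩, fun n => ?_⟩
  by_cases hn : n = i
  · subst hn
    exact Groth.KTheory.LocFree.isFinLocFree_of_iso (singleObjXSelf _ _ _).symm h
  · exact Groth.KTheory.LocFree.isFinLocFree_zero (isZero_single_obj_X _ _ _ _ hn)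

/-- the dual of a perfect object is perfect -/
theorem isPerfect_dual (K : CochainComplex X.Modules ℤ) (hK : IsKFlat (T X) K)
    (hKp : DCoh.IsPerfect (DCoh.toD X K)) [DCoh.HasLTensorCx K] [DCoh.HasRSheafHom K] :
    DCoh.IsPerfect ((DCoh.RSheafHom K).obj
      ((DerivedCategory.singleFunctor X.Modules 0).obj (Coh.structureModule X))) := by
  rw [isPerfect_iff]
  intro x
  obtain ⟨V, E, δ, _, hx, ⟨c⟩⟩ := exists_local_rhom K hK hKp x
  have hV := PCoh.isKFlat_of_isStrictlyPerfect δ.isStrictlyPerfect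
  refine ⟨V, hx, _, PCoh.isStrictlyPerfect_tot
    (isStrictlyPerfect_single (N := Coh.structureModule (V : Scheme.{u}))
      (dpUnit).fl 0) δ.isStrictlyPerfect, ⟨?_⟩⟩
  exact c.app _ ≪≫ (DCoh.LTensorCx δ.V).mapIso
    (((Scheme.Modules.restrictFunctor V.ι).mapDerivedCategorySingleFunctor 0).app (Coh.structureModule X) ≪≫
      (DerivedCategory.singleFunctor _ 0).mapIso (Scheme.Modules.restrictUnitIso V.ι) ≪≫
      (DerivedCategory.singleFunctorIsoCompQ _ 0).app _) ≪≫ KFlat.ltcxIso δ.V hV _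

end Groth.DerivedCoh.Duality
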