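import Groth.Agent.DerivedCoh.KFlat.TensorAssoc
import Groth.Agent.PicAux.Powers
import Groth.Agent.KTheory.LocFree

/-!
Dual pairs of modules: `Hom(A ⊗ N, M) = Hom(A, M ⊗ N^∨)`.
-/

universe u

open CategoryTheory CategoryTheory.Limits AlgebraicGeometry
open Groth.PicAux (tmulSec toFun tensor_hom_ext tensor_hom_ext₃)

namespace Groth.DerivedCoh.Duality

open Groth.DerivedCoh.KFlat (T assocApp assocApp_tmul assocApp₁ assocApp₂ assocApp₃)

variable {X : Scheme.{u}}

local notation "O" => Coh.structureModule X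

/-- `M ⊗ O ≅ M` -/
noncomputable def rho (M : X.Modules) : ((T X).obj M).obj (O) ≅ M := SecTwist.unitorR M

lemma rho_tmul (M : X.Modules) (W : X.Opens) (a : Γ(M, W)) (r : Γ(Coh.structureModule X, W)) :
    (rho M).hom.app W (tmulSec a r : Γ(CohB1.tensorMod M (Coh.structureModule X), W)) =
      toFun r • a :=
  SecTwist.unitorR_tmul M W a r

lemma rho_natural {M M' : X.Modules} (φ : M ⟶ M') :
    ((T X).map φ).app (O) ≫ (rho M').hom = (rho M).hom ≫ φ :=
  (Groth.PicAux.twistUnitIso (X := X)).hom.naturality φ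

/-- `O ⊗ M ≅ M` -/
noncomputable def lam (M : X.Modules) : ((T X).obj (O)).obj M ≅ M :=
  (Groth.PicAux.exists_leftUnitor M).choose

lemma lam_tmul (M : X.Modules) (W : X.Opens) (r : Γ(Coh.structureModule X, W)) (a : Γ(M, W)) :
    (lam M).hom.app W (tmulSec r a : Γ(CohB1.tensorMod (Coh.structureModule X) M, W)) =
      toFun r • a :=
  (Groth.PicAux.exists_leftUnitor M).choose_spec W r a

/-- the adjunct map of a pairing -/
noncomputable def adjH {N V : X.Modules} (ev : ((T X).obj V).obj N ⟶ O) {A M : X.Modules}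
    (a : A ⟶ ((T X).obj M).obj V) : ((T X).obj A).obj N ⟶ M :=
  ((T X).map a).app N ≫ (assocApp M V N).hom ≫ ((T X).obj M).map ev ≫ (rho M).hom

lemma adjH_add {N V : X.Modules} (ev : ((T X).obj V).obj N ⟶ O) {A M : X.Modules}
    (a b : A ⟶ ((T X).obj M).obj V) : adjH ev (a + b) = adjH ev a + adjH ev b := by
  simp [adjH, Functor.map_add]

lemma adjH_left {N V : X.Modules} (ev : ((T X).obj V).obj N ⟶ O) {A' A M : X.Modules}
    (x : A' ⟶ A) (a : A ⟶ ((T X).obj M).obj V) :
    adjH ev (x ≫ a) = ((T X).map x).app N ≫ adjH ev a := by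
  simp [adjH]

lemma adjH_right {N V : X.Modules} (ev : ((T X).obj V).obj N ⟶ O) {A M M' : X.Modules}
    (a : A ⟶ ((T X).obj M).obj V) (φ : M ⟶ M') :
    adjH ev (a ≫ ((T X).map φ).app V) = adjH ev a ≫ φ := by
  simp only [adjH, Functor.map_comp, NatTrans.comp_app, Category.assoc]
  rw [reassoc_of% (assocApp₁ φ V N), ← NatTrans.naturality_assoc, rho_natural]

lemma adjH_pairing {N N' V V' : X.Modules} {ev : ((T X).obj V).obj N ⟶ O}
    {ev' : ((T X).obj V').obj N' ⟶ O} {ψ : V' ⟶ V} {f : N ⟶ N'}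
    (h : ((T X).map ψ).app N ≫ ev = ((T X).obj V').map f ≫ ev') {A M : X.Modules}
    (a : A ⟶ ((T X).obj M).obj V') :
    adjH ev (a ≫ ((T X).obj M).map ψ) = ((T X).obj A).map f ≫ adjH ev' a := by
  simp only [adjH, Functor.map_comp, NatTrans.comp_app, Category.assoc]
  rw [reassoc_of% (assocApp₂ M ψ N), ← Functor.map_comp_assoc, h, Functor.map_comp_assoc,
    ← reassoc_of% (assocApp₃ M V' f), ← NatTrans.naturality_assoc]

/-- `A ⊗ B ≅ B ⊗ A` -/
noncomputable def braid (A B : X.Modules) : ((T X).obj A).obj B ≅ ((T X).obj B).obj A :=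
  (Groth.PicAux.exists_braiding A B).choose

lemma braid_tmul (A B : X.Modules) (W : X.Opens) (a : Γ(A, W)) (b : Γ(B, W)) :
    (braid A B).hom.app W (tmulSec a b : Γ(CohB1.tensorMod A B, W)) = tmulSec b a :=
  (Groth.PicAux.exists_braiding A B).choose_spec W a b

lemma braid_natural₁ {A A' : X.Modules} (f : A ⟶ A') (B : X.Modules) :
    ((T X).map f).app B ≫ (braid A' B).hom = (braid A B).hom ≫ ((T X).obj B).map f := by
  refine tensor_hom_ext fun W a b => ?_
  change (braid A' B).hom.app W ((((T X).map f).app B).app W (tmulSec a b : Γ(CohB1.tensorMod A B, W))) =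
    (((T X).obj B).map f).app W ((braid A B).hom.app W (tmulSec a b : Γ(CohB1.tensorMod A B, W)))
  rw [braid_tmul]
  refine (congrArg _ (KFlat.tensorMap_left_tmulSec f B W a b)).trans ?_
  refine Eq.trans ?_ (KFlat.tensorMap_tmulSec B f W b a).symm
  exact braid_tmul A' B W _ b

lemma braid_natural₂ (A : X.Modules) {B B' : X.Modules} (g : B ⟶ B') :
    ((T X).obj A).map g ≫ (braid A B').hom = (braid A B).hom ≫ ((T X).map g).app A := by
  refine tensor_hom_ext fun W a b => ?_
  change (braid A B').hom.app W ((((T X).obj A).map g).app W (tmulSec a b : Γ(CohB1.tensorMod A B, W))) =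
    (((T X).map g).app A).app W ((braid A B).hom.app W (tmulSec a b : Γ(CohB1.tensorMod A B, W)))
  rw [braid_tmul]
  refine (congrArg _ (KFlat.tensorMap_tmulSec A g W a b)).trans ?_
  refine Eq.trans ?_ (KFlat.tensorMap_left_tmulSec g A W b a).symm
  exact braid_tmul A B' W a _

lemma braid_braid (A B : X.Modules) : (braid A B).hom ≫ (braid B A).hom = 𝟙 _ := by
  refine tensor_hom_ext fun W a b => ?_
  change (braid B A).hom.app W ((braid A B).hom.app W (tmulSec a b : Γ(CohB1.tensorMod A B, W))) = _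
  rw [braid_tmul, braid_tmul]
  rfl

/-- the pairing with the factors exchanged -/
noncomputable def sw {N V : X.Modules} (ev : ((T X).obj V).obj N ⟶ O) : ((T X).obj N).obj V ⟶ O :=
  (braid N V).hom ≫ ev

/-- a module with a perfect pairing -/
structure DP (N : X.Modules) where
  /-- the dual -/
  V : X.Modules
  /-- the evaluation -/
  ev : ((T X).obj V).obj N ⟶ O
  bij : ∀ A M : X.Modules, Function.Bijective (adjH ev : (A ⟶ ((T X).obj M).obj V) → _)
  bij' : ∀ A M : X.Modules, Function.Bijective (adjH (sw ev) : (A ⟶ ((T X).obj M).obj N) → _)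
  fl : FlatMod.IsFinLocFree V

/-- the pairing of `O` with itself -/
lemma bijective_adjH_unit (A M : X.Modules) :
    Function.Bijective (adjH (rho (O)).hom : (A ⟶ ((T X).obj M).obj (O)) → _) := by
  have e : ∀ M : X.Modules, (assocApp M (O) (O)).hom ≫ ((T X).obj M).map (rho (O)).hom ≫
      (rho M).hom = ((T X).map (rho M).hom).app (O) ≫ (rho M).hom := by
    intro M
    refine tensor_hom_ext₃ fun W m r s => ?_
    change (rho M).hom.app W ((((T X).obj M).map (rho (O)).hom).app W
      ((assocApp M (O) (O)).hom.app W (tmulSec (tmulSec m r : Γ(CohB1.tensorMod M (O), W)) s :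
        Γ(CohB1.tensorMod (CohB1.tensorMod M (O)) (O), W)))) =
      (rho M).hom.app W ((((T X).map (rho M).hom).app (O)).app W
        (tmulSec (tmulSec m r : Γ(CohB1.tensorMod M (O), W)) s :
        Γ(CohB1.tensorMod (CohB1.tensorMod M (O)) (O), W)))
    rw [assocApp_tmul]
    refine (congrArg _ (KFlat.tensorMap_tmulSec M (rho (O)).hom W m _)).trans ?_
    refine Eq.trans ?_ (congrArg _ (KFlat.tensorMap_left_tmulSec (rho M).hom (O) W _ s)).symm
    refine (rho_tmul M W m _).trans ?_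
    refine Eq.trans ?_ (rho_tmul M W _ s).symm
    rw [rho_tmul, rho_tmul]
    exact (congrArg (· • m) (Groth.PicAux.toFun_smul (toFun s) r)).trans (mul_smul _ _ _)
  have key : ∀ a : A ⟶ ((T X).obj M).obj (O),
      adjH (rho (O)).hom a = (rho A).hom ≫ a ≫ (rho M).hom := fun a => by
    rw [adjH, e, ← NatTrans.comp_app_assoc, ← Functor.map_comp, rho_natural]
  refine ⟨fun a b hab => ?_, fun g => ⟨(rho A).inv ≫ g ≫ (rho M).inv, by simp [key]⟩⟩
  rw [key, key, cancel_epi, cancel_mono] at hab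
  exact hab

lemma sw_unit : sw (rho (O)).hom = (rho (O : X.Modules)).hom := by
  refine tensor_hom_ext fun W r t => ?_
  change (rho (O)).hom.app W ((braid (O) (O)).hom.app W (tmulSec r t : Γ(CohB1.tensorMod (O) (O), W))) = _
  rw [braid_tmul]
  refine (rho_tmul (O) W t r).trans (Eq.trans ?_ (rho_tmul (O) W r t).symm)
  exact mul_comm (G := Γ(X, W)) (toFun r) (toFun t)

/-- the pairing of `O` with itself -/
noncomputable def dpUnit : DP (O) where
  V := O
  ev := (rho (O)).hom
  bij := bijective_adjH_unit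
  bij' A M := by
    rw [sw_unit]
    exact bijective_adjH_unit A M
  fl := fun x => ⟨⊤, 1, trivial,
    ⟨Scheme.Modules.restrictUnitIso (⊤ : X.Opens).ι ≪≫
      (Limits.coproductUniqueIso (fun _ : Fin 1 =>
        Coh.structureModule ((⊤ : X.Opens) : Scheme.{u}))).symm⟩⟩

/-- transport of a pairing along an isomorphism -/
noncomputable def dpOfIso {N N' : X.Modules} (d : DP N) (e : N ≅ N') : DP N' where
  V := d.V
  ev := ((T X).obj d.V).map e.inv ≫ d.ev
  fl := d.fl
  bij' A M := by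
    have key : ∀ a : A ⟶ ((T X).obj M).obj N',
        adjH (sw (((T X).obj d.V).map e.inv ≫ d.ev)) a = adjH (sw d.ev) (a ≫ ((T X).obj M).map e.inv) :=
      fun a => by
        have h : ((T X).map e.inv).app d.V ≫ sw d.ev =
            ((T X).obj N').map (𝟙 d.V) ≫ sw (((T X).obj d.V).map e.inv ≫ d.ev) := by
          rw [CategoryTheory.Functor.map_id, Category.id_comp]
          exact (Category.assoc _ _ _).symm.trans
            ((congrArg (· ≫ d.ev) (braid_natural₁ e.inv d.V)).trans (Category.assoc _ _ _))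
        rw [adjH_pairing h a, CategoryTheory.Functor.map_id, Category.id_comp]
    refine ⟨fun a b hab => ?_, fun g => ?_⟩
    · rw [key, key] at hab
      exact (cancel_mono _).1 ((d.bij' A M).1 hab)
    · obtain ⟨a, ha⟩ := (d.bij' A M).2 g
      exact ⟨a ≫ ((T X).obj M).map e.hom, by rw [key, Category.assoc, ← Functor.map_comp]; simpa using ha⟩
  bij A M := by
    have key : ∀ a : A ⟶ ((T X).obj M).obj d.V,
        adjH (((T X).obj d.V).map e.inv ≫ d.ev) a = ((T X).obj A).map e.inv ≫ adjH d.ev a := fun a => by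
      conv_lhs => rw [← Category.comp_id a, ← CategoryTheory.Functor.map_id ((T X).obj M) d.V]
      exact adjH_pairing (by simp) a
    refine ⟨fun a b hab => (d.bij A M).1 ?_, fun g => ?_⟩
    · rwa [key, key, cancel_epi] at hab
    · obtain ⟨a, ha⟩ := (d.bij A M).2 (((T X).obj A).map e.hom ≫ g)
      exact ⟨a, by rw [key, ha, ← Functor.map_comp_assoc]; simp⟩

/-- the pairing of zero -/
noncomputable def dpZero {N : X.Modules} (h : IsZero N) : DP N where
  V := N
  ev := (((T X).obj N).map_isZero h).to_ _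
  fl := Groth.KTheory.LocFree.isFinLocFree_zero h
  bij A M := ⟨fun a b _ => (((T X).obj M).map_isZero h).eq_of_tgt _ _,
    fun g => ⟨0, (((T X).obj A).map_isZero h).eq_of_src _ _⟩⟩
  bij' A M := ⟨fun a b _ => (((T X).obj M).map_isZero h).eq_of_tgt _ _,
    fun g => ⟨0, (((T X).obj A).map_isZero h).eq_of_src _ _⟩⟩

lemma bijective_adjH_biprod {N₁ N₂ V₁ V₂ : X.Modules} (e₁' : ((T X).obj V₁).obj N₁ ⟶ O)
    (e₂' : ((T X).obj V₂).obj N₂ ⟶ O)
    (b₁ : ∀ A M : X.Modules, Function.Bijective (adjH e₁' : (A ⟶ ((T X).obj M).obj V₁) → _))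
    (b₂ : ∀ A M : X.Modules, Function.Bijective (adjH e₂' : (A ⟶ ((T X).obj M).obj V₂) → _))
    (ev : ((T X).obj (V₁ ⊞ V₂)).obj (N₁ ⊞ N₂) ⟶ O)
    (hev : ev = ((T X).map biprod.fst).app _ ≫ ((T X).obj V₁).map biprod.fst ≫ e₁' +
      ((T X).map biprod.snd).app _ ≫ ((T X).obj V₂).map biprod.snd ≫ e₂') (A M : X.Modules) :
    Function.Bijective (adjH ev : (A ⟶ ((T X).obj M).obj (V₁ ⊞ V₂)) → _) := by
  have h₁ : ((T X).map (biprod.fst : V₁ ⊞ V₂ ⟶ _)).app N₁ ≫ e₁' =
      ((T X).obj _).map (biprod.inl : N₁ ⟶ N₁ ⊞ N₂) ≫ ev := by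
    simp only [hev, Preadditive.comp_add, ← NatTrans.naturality_assoc, ← Functor.map_comp_assoc,
      biprod.inl_fst, biprod.inl_snd, CategoryTheory.Functor.map_id, Category.id_comp,
      Functor.map_zero, zero_comp, comp_zero, add_zero]
  have h₂ : ((T X).map (biprod.snd : V₁ ⊞ V₂ ⟶ _)).app N₂ ≫ e₂' =
      ((T X).obj _).map (biprod.inr : N₂ ⟶ N₁ ⊞ N₂) ≫ ev := by
    simp only [hev, Preadditive.comp_add, ← NatTrans.naturality_assoc, ← Functor.map_comp_assoc,
      biprod.inr_fst, biprod.inr_snd, CategoryTheory.Functor.map_id, Category.id_comp,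
      Functor.map_zero, zero_comp, comp_zero, zero_add]
  refine ⟨fun a b hab => ?_, fun g => ?_⟩
  · have e₁ := (b₁ A M).1 ((adjH_pairing h₁ a).trans
      ((congrArg (_ ≫ ·) hab).trans (adjH_pairing h₁ b).symm))
    have e₂ := (b₂ A M).1 ((adjH_pairing h₂ a).trans
      ((congrArg (_ ≫ ·) hab).trans (adjH_pairing h₂ b).symm))
    rw [← cancel_mono (((T X).obj M).map (𝟙 (V₁ ⊞ V₂))), ← biprod.total, Functor.map_add,
      Preadditive.comp_add, Preadditive.comp_add, Functor.map_comp, Functor.map_comp,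
      reassoc_of% e₁, reassoc_of% e₂]
  · obtain ⟨a₁, ha₁⟩ := (b₁ A M).2 (((T X).obj A).map biprod.inl ≫ g)
    obtain ⟨a₂, ha₂⟩ := (b₂ A M).2 (((T X).obj A).map biprod.inr ≫ g)
    refine ⟨a₁ ≫ ((T X).obj M).map biprod.inl + a₂ ≫ ((T X).obj M).map biprod.inr, ?_⟩
    rw [← cancel_epi (((T X).obj A).map (𝟙 (N₁ ⊞ N₂))), ← biprod.total, Functor.map_add,
      Preadditive.add_comp, Preadditive.add_comp, Functor.map_comp, Functor.map_comp,
      Category.assoc, Category.assoc, Category.assoc, Category.assoc, ← adjH_pairing h₁,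
      ← adjH_pairing h₂, ← ha₁, ← ha₂]
    simp [Preadditive.add_comp, ← Functor.map_comp]

/-- the pairing of a sum -/
noncomputable def dpBiprod {N₁ N₂ : X.Modules} (d₁ : DP N₁) (d₂ : DP N₂) : DP (N₁ ⊞ N₂) where
  V := d₁.V ⊞ d₂.V
  ev := ((T X).map biprod.fst).app _ ≫ ((T X).obj d₁.V).map biprod.fst ≫ d₁.ev +
    ((T X).map biprod.snd).app _ ≫ ((T X).obj d₂.V).map biprod.snd ≫ d₂.ev
  fl := Groth.KTheory.LocFree.isFinLocFree_biprod d₁.fl d₂.fl
  bij := bijective_adjH_biprod _ _ d₁.bij d₂.bij _ rfl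
  bij' := bijective_adjH_biprod _ _ d₁.bij' d₂.bij' _ (by
    simp only [sw, Preadditive.comp_add]
    congr 1 <;>
    · rw [← reassoc_of% (braid_natural₂ _ _), ← reassoc_of% (braid_natural₁ _ _),
        ← NatTrans.naturality_assoc])

variable {N N' N'' : X.Modules}

/-- the dual morphism -/
noncomputable def dualMap (d : DP N) (d' : DP N') (f : N ⟶ N') : d'.V ⟶ d.V :=
  ((d.bij d'.V (O)).2 (((T X).obj d'.V).map f ≫ d'.ev)).choose ≫ (lam d.V).hom

lemma adjH_lam {V N : X.Modules} (ev : ((T X).obj V).obj N ⟶ O) {A : X.Modules}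
    (a : A ⟶ ((T X).obj (O)).obj V) :
    adjH ev a = ((T X).map (a ≫ (lam V).hom)).app N ≫ ev := by
  rw [adjH, Functor.map_comp, NatTrans.comp_app, Category.assoc]
  congr 1
  refine tensor_hom_ext₃ fun W r v n => ?_
  change (rho (O)).hom.app W ((((T X).obj (O)).map ev).app W
      ((assocApp (O) V N).hom.app W (tmulSec (tmulSec r v : Γ(CohB1.tensorMod (O) V, W)) n :
        Γ(CohB1.tensorMod (CohB1.tensorMod (O) V) N, W)))) =
    ev.app W ((((T X).map (lam V).hom).app N).app W
      (tmulSec (tmulSec r v : Γ(CohB1.tensorMod (O) V, W)) n :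
        Γ(CohB1.tensorMod (CohB1.tensorMod (O) V) N, W)))
  rw [assocApp_tmul]
  refine (congrArg _ (KFlat.tensorMap_tmulSec (O) ev W r _)).trans ?_
  refine Eq.trans ?_ (congrArg _ (KFlat.tensorMap_left_tmulSec (lam V).hom N W _ n)).symm
  refine (rho_tmul (O) W r _).trans ?_
  rw [lam_tmul, Groth.PicAux.tmulSec_smul_left]
  refine Eq.trans ?_ (ev.app_smul _ _).symm
  exact mul_comm (G := Γ(X, W)) (toFun _) (toFun r)

lemma dualMap_ev (d : DP N) (d' : DP N') (f : N ⟶ N') :
    ((T X).map (dualMap d d' f)).app N ≫ d.ev = ((T X).obj d'.V).map f ≫ d'.ev := by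
  rw [dualMap, ← adjH_lam]
  exact ((d.bij d'.V (O)).2 (((T X).obj d'.V).map f ≫ d'.ev)).choose_spec

lemma adjH_dualMap (d : DP N) (d' : DP N') (f : N ⟶ N') {A M : X.Modules}
    (a : A ⟶ ((T X).obj M).obj d'.V) :
    adjH d.ev (a ≫ ((T X).obj M).map (dualMap d d' f)) =
      ((T X).obj A).map f ≫ adjH d'.ev a :=
  adjH_pairing (dualMap_ev d d' f) a

lemma pairing_ext (d : DP N) {V' : X.Modules} {ψ ψ' : V' ⟶ d.V}
    (h : ((T X).map ψ).app N ≫ d.ev = ((T X).map ψ').app N ≫ d.ev) : ψ = ψ' := by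
  have h' : adjH d.ev (ψ ≫ (lam d.V).inv) = adjH d.ev (ψ' ≫ (lam d.V).inv) := by
    simpa [adjH_lam] using h
  exact (cancel_mono _).1 ((d.bij _ _).1 h')

lemma dualMap_zero (d : DP N) (d' : DP N') : dualMap d d' 0 = 0 :=
  pairing_ext d (by rw [dualMap_ev]; simp [Functor.map_zero])

lemma dualMap_comp (d : DP N) (d' : DP N') (d'' : DP N'') (f : N ⟶ N') (g : N' ⟶ N'') :
    dualMap d' d'' g ≫ dualMap d d' f = dualMap d d'' (f ≫ g) := by
  refine pairing_ext d ?_
  rw [Functor.map_comp, NatTrans.comp_app, Category.assoc, dualMap_ev, ← NatTrans.naturality_assoc,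
    dualMap_ev, dualMap_ev, Functor.map_comp_assoc]

/-- finite free modules have perfect pairings -/
theorem nonempty_dp_sigma (α : Type) [Finite α] (F : α → X.Modules)
    (h : ∀ a, Nonempty (DP (F a))) : Nonempty (DP (∐ F)) := by
  refine Finite.induction_empty_option
    (P := fun α => ∀ F : α → X.Modules, (∀ a, Nonempty (DP (F a))) → Nonempty (DP (∐ F)))
    ?_ ?_ ?_ α F h
  · intro α β e hα F hF
    exact (hα _ fun a => hF (e a)).map fun d => dpOfIso d (Sigma.reindex e F)
  · intro F _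
    refine ⟨dpZero ?_⟩
    rw [IsZero.iff_id_eq_zero]
    exact Sigma.hom_ext _ _ fun i => i.elim
  · intro α _ hα F hF
    let M := fun a : α => F (some a)
    let e : F none ⊞ (∐ M) ≅ ∐ F :=
      { hom := biprod.desc (Sigma.ι F none) (Sigma.desc fun a => Sigma.ι F (some a))
        inv := Sigma.desc fun a =>
          match a with
          | none => biprod.inl
          | some a => Sigma.ι M a ≫ biprod.inr
        hom_inv_id := by
          refine biprod.hom_ext' _ _ (by simp) (Sigma.hom_ext _ _ fun a => by simp [M])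
        inv_hom_id := by
          refine Sigma.hom_ext _ _ fun a => ?_
          cases a <;> simp [M] }
    exact (hα M fun a => hF (some a)).elim fun d =>
      (hF none).map fun d₀ => dpOfIso (dpBiprod d₀ d) e

theorem nonempty_dp_free {N : X.Modules} {n : ℕ} (e : N ≅ FlatMod.freeMod X n) : Nonempty (DP N) :=
  (nonempty_dp_sigma (Fin n) _ fun _ => ⟨dpUnit⟩).map fun d => dpOfIso d e.symm

end Groth.DerivedCoh.Duality
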