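import Groth.Agent.DerivedCoh.Duality.Theta

/-!
Symmetry of the tensor product of complexes, and the symmetric form of duals.
-/

universe u

open CategoryTheory CategoryTheory.Limits AlgebraicGeometry HomologicalComplex
open Groth.PicAux (tmulSec toFun tensor_hom_ext)

namespace Groth.DerivedCoh.Duality

open Groth.DerivedCoh.KFlat (T IsKFlat tot totL totR totAssoc)

attribute [local instance] HasDerivedCategory.standard

variable {X : Scheme.{u}}

local notation "up" => ComplexShape.up ℤ
local notation "O" => Coh.structureModule X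

section Br

variable (P Q : CochainComplex X.Modules ℤ)

/-- the symmetry, in one degree -/
noncomputable def brX (n : ℤ) : (tot (T X) P Q).X n ⟶ (tot (T X) Q P).X n :=
  HomologicalComplex.mapBifunctorDesc fun p q (h : p + q = n) =>
    (p * q).negOnePow • ((braid (P.X p) (Q.X q)).hom ≫ inc Q P q p n (by omega))

lemma inc_brX (p q n : ℤ) (h : p + q = n) :
    inc P Q p q n h ≫ brX P Q n =
      (p * q).negOnePow • ((braid (P.X p) (Q.X q)).hom ≫ inc Q P q p n (by omega)) := by
  simp [brX, inc]

/-- the symmetry `P ⊗ Q ⟶ Q ⊗ P` -/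
noncomputable def br : tot (T X) P Q ⟶ tot (T X) Q P where
  f := brX P Q
  comm' n n' hn := by
    obtain rfl : n + 1 = n' := hn
    refine tot_ext P Q fun p q h => ?_
    rw [← Category.assoc, inc_brX, ← Category.assoc, inc_d, Linear.units_smul_comp, Category.assoc,
      inc_d, Preadditive.add_comp, Category.assoc, inc_brX, Linear.units_smul_comp, Category.assoc,
      inc_brX]
    simp only [Preadditive.comp_add, Linear.comp_units_smul, smul_add, smul_smul]
    rw [← reassoc_of% (braid_natural₁ (P.d p (p + 1)) (Q.X q)),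
      ← reassoc_of% (braid_natural₂ (P.X p) (Q.d q (q + 1)))]
    refine (add_comm _ _).trans ?_
    congr 2
    · rw [← Int.negOnePow_add]
      congr 1
      ring
    · rw [← Int.negOnePow_add, Int.negOnePow_eq_iff]
      exact ⟨-p, by ring⟩

lemma inc_br (p q n : ℤ) (h : p + q = n) :
    inc P Q p q n h ≫ (br P Q).f n =
      (p * q).negOnePow • ((braid (P.X p) (Q.X q)).hom ≫ inc Q P q p n (by omega)) :=
  inc_brX P Q p q n h

lemma br_br : br P Q ≫ br Q P = 𝟙 _ := by
  refine HomologicalComplex.hom_ext _ _ fun n => tot_ext P Q fun p q h => ?_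
  rw [HomologicalComplex.comp_f, ← Category.assoc, inc_br, Linear.units_smul_comp, Category.assoc,
    inc_br, Linear.comp_units_smul, smul_smul, reassoc_of% (braid_braid (P.X p) (Q.X q)), mul_comm q p,
    Int.units_mul_self, one_smul]
  simp

/-- the symmetry `P ⊗ Q ≅ Q ⊗ P` -/
noncomputable def brIso : tot (T X) P Q ≅ tot (T X) Q P :=
  ⟨br P Q, br Q P, br_br P Q, br_br Q P⟩

lemma br_natural {P' Q' : CochainComplex X.Modules ℤ} (f : P ⟶ P') (g : Q ⟶ Q') :
    mapBifunctorMap f g (T X) up ≫ br P' Q' = br P Q ≫ mapBifunctorMap g f (T X) up := by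
  refine HomologicalComplex.hom_ext _ _ fun n => tot_ext P Q fun p q h => ?_
  rw [HomologicalComplex.comp_f, HomologicalComplex.comp_f]
  conv_rhs => rw [← Category.assoc, inc_br, Linear.units_smul_comp, Category.assoc, ι_mapBifunctorMap]
  conv_lhs => rw [ι_mapBifunctorMap_assoc, inc_br]
  simp only [Linear.comp_units_smul]
  congr 1
  rw [reassoc_of% (braid_natural₂ (P'.X p) (g.f q)), reassoc_of% (braid_natural₁ (f.f p) (Q.X q))]
  rw [((T X).map (g.f q)).naturality_assoc (f.f p)]

end Br

/-- K-flat complexes are K-flat on both sides -/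
lemma isKFlat_flip {K : CochainComplex X.Modules ℤ} (h : IsKFlat (T X) K) : IsKFlat (T X).flip K :=
  (KFlat.isKFlat_flip_iff (T X) K).2 fun M hM i => (h M hM i).of_iso (brIso M K)

/-- complexes K-flat on the right factor are K-flat -/
lemma isKFlat_of_flip {K : CochainComplex X.Modules ℤ} (h : IsKFlat (T X).flip K) : IsKFlat (T X) K :=
  fun M hM i => ((KFlat.isKFlat_flip_iff (T X) K).1 h M hM i).of_iso (brIso K M)

/-! ### the unit -/

lemma lam_natural {M M' : X.Modules} (φ : M ⟶ M') :
    ((T X).obj (O)).map φ ≫ (lam M').hom = (lam M).hom ≫ φ := by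
  refine tensor_hom_ext fun W r a => ?_
  change (lam M').hom.app W ((((T X).obj (O)).map φ).app W (tmulSec r a : Γ(CohB1.tensorMod (O) M, W))) =
    φ.app W ((lam M).hom.app W (tmulSec r a : Γ(CohB1.tensorMod (O) M, W)))
  refine (congrArg _ (KFlat.tensorMap_tmulSec (O) φ W r a)).trans ?_
  refine (lam_tmul M' W r _).trans ?_
  rw [lam_tmul]
  exact (φ.app_smul _ _).symm

/-- `O` as a complex -/
noncomputable abbrev unitN (X : Scheme.{u}) : CochainComplex X.Modules ℤ :=
  (single X.Modules up 0).obj (Coh.structureModule X)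

/-- the component in degree zero -/
noncomputable abbrev sx (X : Scheme.{u}) : (unitN X).X 0 ≅ Coh.structureModule X :=
  singleObjXSelf up 0 (Coh.structureModule X)

variable (V : CochainComplex X.Modules ℤ)

/-- `O⁰ ⊗ V^p ≅ V^p` -/
noncomputable def lamX (p : ℤ) : ((T X).obj ((unitN X).X 0)).obj (V.X p) ≅ V.X p :=
  ((T X).mapIso (sx X)).app _ ≪≫ lam (V.X p)

open Classical in
/-- `(O ⊗ V)^p ≅ V^p` -/
noncomputable def lamTotX (p : ℤ) : V.X p ≅ (tot (T X) (unitN X) V).X p where
  hom := (lamX V p).inv ≫ inc (unitN X) V 0 p p (zero_add p)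
  inv := HomologicalComplex.mapBifunctorDesc fun i j (h : i + j = p) =>
    if e : i = 0 then eqToHom (by subst e; obtain rfl : j = p := (by omega); rfl) ≫ (lamX V p).hom
    else 0
  hom_inv_id := by simp [inc]
  inv_hom_id := by
    refine tot_ext (unitN X) V fun i j h => ?_
    by_cases e : i = 0
    · subst e
      obtain rfl : j = p := by omega
      simp [inc]
    · exact (((T X).map_isZero (isZero_single_obj_X _ _ _ _ e)).obj _).eq_of_src _ _

/-- `V ≅ O ⊗ V` -/
noncomputable def lamTot : V ≅ tot (T X) (unitN X) V :=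
  HomologicalComplex.Hom.isoOfComponents (lamTotX V) fun p p' hp => by
    obtain rfl : p + 1 = p' := hp
    change ((lamX V p).inv ≫ inc (unitN X) V 0 p p (zero_add p)) ≫ _ =
      _ ≫ (lamX V (p + 1)).inv ≫ inc (unitN X) V 0 (p + 1) (p + 1) (zero_add _)
    rw [Category.assoc, inc_d, HomologicalComplex.single_obj_d, Functor.map_zero, NatTrans.app_zero,
      zero_comp, zero_add, Int.negOnePow_zero, one_smul, ← Category.assoc, ← Category.assoc]
    refine congrArg (· ≫ _) ?_
    rw [Iso.inv_comp_eq, ← Category.assoc, Iso.eq_comp_inv]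
    simp only [lamX, Iso.trans_hom, Iso.app_hom, Functor.mapIso_hom]
    rw [NatTrans.naturality_assoc, lam_natural, Category.assoc]

lemma lamTot_hom_f (p : ℤ) :
    (lamTot V).hom.f p = (lamX V p).inv ≫ inc (unitN X) V 0 p p (zero_add p) := rfl

/-! ### the dual of the dual -/

variable {E : CochainComplex X.Modules ℤ} (δ : DualCx E)

/-- the pairing `E^∨ ⊗ E ⟶ O` -/
noncomputable def pair : tot (T X) δ.V E ⟶ unitN X :=
  (totL (T X) E).map (lamTot δ.V).hom ≫ coev δ (unitN X)

lemma inc_pair (p r : ℤ) (h : p + r = 0) :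
    inc δ.V E p r 0 h ≫ (pair δ).f 0 = δ.ev p r h ≫ (sx X).inv := by
  obtain rfl : p = -r := by omega
  refine (Category.assoc _ _ _).symm.trans ?_
  refine (congrArg (· ≫ (coev δ (unitN X)).f 0) (KFlat.ι_totL_map (lamTot δ.V).hom E (-r) r 0 h)).trans ?_
  refine (Category.assoc _ _ _).trans ?_
  refine (congrArg (_ ≫ ·) (inc_transpose δ _ (unitN X) (𝟙 _) (-r) r 0 h)).trans ?_
  unfold gcomp
  refine (adjH_left _ _ _).symm.trans ?_
  have e : (lamTot δ.V).hom.f (-r) ≫ (𝟙 (tot (T X) (unitN X) δ.V) : _ ⟶ _).f (-r) ≫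
      proj (unitN X) δ.V (-r) 0 (-r) (zero_add _) =
        (lam (δ.V.X (-r))).inv ≫ ((T X).map (sx X).inv).app _ := by
    rw [HomologicalComplex.id_f, Category.id_comp, lamTot_hom_f, Category.assoc, inc_proj_self,
      Category.comp_id]
    rfl
  refine (congrArg (adjH _) e).trans ?_
  rw [adjH_right, adjH_lam, Iso.inv_hom_id, CategoryTheory.Functor.map_id, NatTrans.id_app,
    Category.id_comp]

lemma adjH_units {N V : X.Modules} (ev : ((T X).obj V).obj N ⟶ O) (u : ℤˣ) {A M : X.Modules}
    (a : A ⟶ ((T X).obj M).obj V) : adjH (u • ev) a = u • adjH ev a := by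
  rcases Int.units_eq_one_or u with rfl | rfl <;> simp [adjH, Units.smul_def]

lemma bijective_units {N V : X.Modules} {ev : ((T X).obj V).obj N ⟶ O} (u : ℤˣ) {A M : X.Modules}
    (h : Function.Bijective (adjH ev : (A ⟶ ((T X).obj M).obj V) → _)) :
    Function.Bijective (adjH (u • ev) : (A ⟶ ((T X).obj M).obj V) → _) := by
  have : (adjH (u • ev) : (A ⟶ ((T X).obj M).obj V) → _) = (fun g => u • g) ∘ adjH ev :=
    funext fun a => adjH_units ev u a
  rw [this]
  exact (MulAction.bijective u).comp h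

lemma sw_sw {N V : X.Modules} (ev : ((T X).obj V).obj N ⟶ O) : sw (sw ev) = ev := by
  unfold sw
  rw [reassoc_of% (braid_braid V N)]

lemma sw_units {N V : X.Modules} (ev : ((T X).obj V).obj N ⟶ O) (u : ℤˣ) :
    sw (u • ev) = u • sw ev :=
  Linear.comp_units_smul ..

/-- `E` is the dual of `E^∨` -/
noncomputable def DualCx.swap (hE : DCoh.IsStrictlyPerfect E) : DualCx δ.V where
  V := E
  lo := -δ.hi
  hi := -δ.lo
  ev m r h := m.negOnePow • sw (δ.ev r m (by omega))
  bij m r h A M := bijective_units _ (δ.bij' r m _ A M)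
  bij' m r h A M := by
    rw [sw_units, sw_sw]
    exact bijective_units _ (δ.bij r m _ A M)
  zero m hm := δ.zeroE m (by simp only [Finset.mem_Icc] at hm ⊢; omega)
  zeroE r hr := δ.zero r (by simp only [Finset.mem_Icc] at hr ⊢; omega)
  fl := hE.2
  comm m m' r r' hm hr h₁ h₂ := by
    subst hm hr
    have hc := δ.comm r (r + 1) m (m + 1) rfl rfl (by omega) (by omega)
    rw [add_eq_zero_iff_eq_neg] at hc
    simp only [sw, Linear.comp_units_smul, smul_smul]
    rw [reassoc_of% (braid_natural₂ (E.X m) (δ.V.d r (r + 1))), hc]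
    rw [reassoc_of% (braid_natural₁ (E.d m (m + 1)) (δ.V.X r))]
    simp only [Preadditive.comp_neg, Linear.comp_units_smul, smul_neg, smul_smul]
    rw [show (m + 1).negOnePow = m.negOnePow * m.negOnePow * r.negOnePow by
      rw [← Int.negOnePow_add, ← Int.negOnePow_add, Int.negOnePow_eq_iff]
      exact ⟨-m - r, by omega⟩, add_neg_cancel]

lemma pair_swap (hE : DCoh.IsStrictlyPerfect E) :
    pair (δ.swap hE) = br E δ.V ≫ pair δ := by
  refine HomologicalComplex.hom_ext _ _ fun n => ?_
  by_cases hn : n = 0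
  · subst hn
    refine tot_ext E δ.V fun m r h => ?_
    refine (inc_pair (δ.swap hE) m r h).trans (Eq.symm ?_)
    rw [HomologicalComplex.comp_f, ← Category.assoc, inc_br, Linear.units_smul_comp, Category.assoc,
      inc_pair]
    change _ = (m.negOnePow • sw (δ.ev r m (by omega))) ≫ (sx X).inv
    rw [Linear.units_smul_comp, sw, Category.assoc,
      show (m * r).negOnePow = m.negOnePow by
        obtain rfl : r = -m := by omega
        rw [mul_neg, Int.negOnePow_neg, Int.negOnePow_mul_self]]
  · exact (isZero_single_obj_X _ _ _ _ hn).eq_of_tgt _ _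

/-- the pairing of a complex with its dual represents `RHom(E, O)` -/
lemma rep_pair (hE : IsKFlat (T X) E) (hV : IsKFlat (T X) δ.V) [DCoh.HasLTensorCx E]
    [DCoh.HasLTensorCx δ.V] :
    Rep E δ.V (isKFlat_flip hV) (DerivedCategory.Q.map (pair δ)) := by
  let adj := derivedTotAdj δ hE hV
  let ιV := KFlat.ltcxNatIso δ.V hV
  let ιE := KFlat.ltcxNatIso E hE
  rw [rep_iff E adj]
  let y : DCoh.toD X δ.V ⟶ (DCoh.LTensorCx δ.V).obj (DCoh.toD X (unitN X)) :=
    DerivedCategory.Q.map (lamTot δ.V).hom ≫ ιV.inv.app (unitN X)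
  have hy : adj.homEquiv (DCoh.toD X δ.V) (DCoh.toD X (unitN X))
      ((iot E δ.V (isKFlat_flip hV)).hom ≫ DerivedCategory.Q.map (pair δ)) = y := by
    rw [Equiv.apply_eq_iff_eq_symm_apply, Adjunction.homEquiv_counit, derived_counit δ hE hV]
    have i₀ : y ≫ ιV.hom.app (unitN X) = DerivedCategory.Q.map (lamTot δ.V).hom :=
      (Category.assoc _ _ _).trans
        ((congrArg (_ ≫ ·) (ιV.inv_hom_id_app (unitN X))).trans (Category.comp_id _))
    have i₁ : (DCoh.LTensorCx E).map y ≫ (DCoh.LTensorCx E).map (ιV.hom.app (unitN X)) =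
        (DCoh.LTensorCx E).map (DerivedCategory.Q.map (lamTot δ.V).hom) :=
      (Functor.map_comp _ _ _).symm.trans (congrArg _ i₀)
    have i₂ : (DCoh.LTensorCx E).map (DerivedCategory.Q.map (lamTot δ.V).hom) ≫
        ιE.hom.app ((totL (T X) δ.V).obj (unitN X)) =
        ιE.hom.app δ.V ≫ DerivedCategory.Q.map ((totL (T X) E).map (lamTot δ.V).hom) :=
      ιE.hom.naturality (lamTot δ.V).hom
    refine Eq.symm ?_
    refine (Category.assoc _ _ _).symm.trans ?_
    rw [i₁]
    refine (Category.assoc _ _ _).symm.trans ((congrArg (· ≫ _) i₂).trans ?_)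
    refine (Category.assoc _ _ _).trans ?_
    exact congrArg (ιE.hom.app δ.V ≫ ·) (DerivedCategory.Q.map_comp _ _).symm
  rw [hy]
  exact IsIso.comp_isIso' inferInstance ((ιV.app (unitN X)).isIso_inv)

end Groth.DerivedCoh.Duality
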