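import Groth.Agent.DerivedCoh.Duality.Coherence

/-!
Restriction to opens and total tensor products.
-/

universe u

open CategoryTheory CategoryTheory.Limits AlgebraicGeometry HomologicalComplex
open Groth.PicAux (tmulSec pullSec)

namespace Groth.DerivedCoh.Duality

open Groth.DerivedCoh.KFlat (T IsKFlat tot totL totR totAssoc assocApp pullTensor)
open Groth.DerivedCoh.ExtZero (restrTensor resCx ezCx projHom)

attribute [local instance] HasDerivedCategory.standard

variable {U X : Scheme.{u}} (j : U ⟶ X) [IsOpenImmersion j]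

local notation "up" => ComplexShape.up ℤ

lemma pullTensor_assoc {Y : Scheme.{u}} (f : Y ⟶ X) (A B C : X.Modules) :
    (Scheme.Modules.pullback f).map (assocApp A B C).hom ≫ (pullTensor f A _).hom ≫
        ((T Y).obj _).map (pullTensor f B C).hom =
      (pullTensor f _ C).hom ≫ ((T Y).map (pullTensor f A B).hom).app _ ≫
        (assocApp ((Scheme.Modules.pullback f).obj A) ((Scheme.Modules.pullback f).obj B)
          ((Scheme.Modules.pullback f).obj C)).hom := by
  refine ((Scheme.Modules.pullbackPushforwardAdjunction f).homEquiv _ _).injective ?_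
  rw [Adjunction.homEquiv_unit, Adjunction.homEquiv_unit]
  refine Groth.PicAux.tensor_hom_ext₃ fun W a b c => ?_
  change (((T Y).obj _).map (pullTensor f B C).hom).app (f ⁻¹ᵁ W)
      ((pullTensor f A _).hom.app (f ⁻¹ᵁ W)
        (((Scheme.Modules.pullback f).map (assocApp A B C).hom).app (f ⁻¹ᵁ W)
          (pullSec f _ (tmulSec (tmulSec a b : Γ(CohB1.tensorMod A B, W)) c :
            Γ(CohB1.tensorMod (CohB1.tensorMod A B) C, W))))) =
    (assocApp _ _ _).hom.app (f ⁻¹ᵁ W) ((((T Y).map (pullTensor f A B).hom).app _).app (f ⁻¹ᵁ W)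
      ((pullTensor f _ C).hom.app (f ⁻¹ᵁ W)
        (pullSec f _ (tmulSec (tmulSec a b : Γ(CohB1.tensorMod A B, W)) c :
            Γ(CohB1.tensorMod (CohB1.tensorMod A B) C, W)))))
  refine (congrArg (fun z => (((T Y).obj _).map (pullTensor f B C).hom).app (f ⁻¹ᵁ W)
    ((pullTensor f A _).hom.app (f ⁻¹ᵁ W) z)) ((Groth.PicAux.pullSec_map f _ _).trans
      (congrArg (pullSec f _) (KFlat.assocApp_tmul A B C W a b c)))).trans ?_
  refine (congrArg _ (KFlat.pullTensor_pullSec f A _ W a _)).trans ?_
  refine (KFlat.tensorMap_tmulSec _ _ _ _ _).trans ?_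
  refine (congrArg (fun z => (tmulSec _ z : Γ(CohB1.tensorMod _ _, f ⁻¹ᵁ W)))
    (KFlat.pullTensor_pullSec f B C W b c)).trans ?_
  refine Eq.symm ?_
  refine (congrArg (fun z => (assocApp _ _ _).hom.app (f ⁻¹ᵁ W)
    ((((T Y).map (pullTensor f A B).hom).app _).app (f ⁻¹ᵁ W) z))
      (KFlat.pullTensor_pullSec f _ C W _ c)).trans ?_
  refine (congrArg _ ((KFlat.tensorMap_left_tmulSec _ _ _ _ _).trans
    (congrArg (fun z => (tmulSec z _ : Γ(CohB1.tensorMod _ _, f ⁻¹ᵁ W)))
      (KFlat.pullTensor_pullSec f A B W a b)))).trans ?_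
  exact KFlat.assocApp_tmul _ _ _ _ _ _ _

lemma restrTensor_assoc (A B C : X.Modules) :
    ((T U).map (restrTensor j A B).hom).app _ ≫ (restrTensor j (((T X).obj A).obj B) C).hom ≫
        (Scheme.Modules.restrictFunctor j).map (assocApp A B C).hom =
      (assocApp _ _ _).hom ≫ ((T U).obj _).map (restrTensor j B C).hom ≫
        (restrTensor j A (((T X).obj B).obj C)).hom := by
  let I := Scheme.Modules.restrictFunctorIsoPullback j
  have rt : ∀ M N : X.Modules, (restrTensor j M N).hom ≫ I.hom.app _ =
      ((T U).map (I.hom.app M)).app _ ≫ ((T U).obj _).map (I.hom.app N) ≫ (pullTensor j M N).inv := by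
    intro M N
    simp [restrTensor, I]
  have p' : ((T U).map (pullTensor j A B).inv).app _ ≫ (pullTensor j _ C).inv ≫
      (Scheme.Modules.pullback j).map (assocApp A B C).hom =
      (assocApp _ _ _).hom ≫ ((T U).obj _).map (pullTensor j B C).inv ≫ (pullTensor j A _).inv := by
    rw [← cancel_mono (pullTensor j A (((T X).obj B).obj C)).hom,
      ← cancel_mono (((T U).obj ((Scheme.Modules.pullback j).obj A)).map (pullTensor j B C).hom)]
    simp only [Category.assoc, pullTensor_assoc, Iso.inv_hom_id_assoc]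
    rw [← NatTrans.comp_app_assoc, ← Functor.map_comp, Iso.inv_hom_id,
      CategoryTheory.Functor.map_id, NatTrans.id_app, Category.id_comp, ← Functor.map_comp,
      Iso.inv_hom_id, CategoryTheory.Functor.map_id, Category.comp_id]
  have nI : ∀ {M N : X.Modules} (f : M ⟶ N), (Scheme.Modules.restrictFunctor j).map f ≫ I.hom.app N =
      I.hom.app M ≫ (Scheme.Modules.pullback j).map f := fun f => I.hom.naturality f
  rw [← cancel_mono (I.hom.app (((T X).obj A).obj (((T X).obj B).obj C)))]
  simp only [Category.assoc]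
  rw [nI, reassoc_of% (rt (((T X).obj A).obj B) C), rt A (((T X).obj B).obj C)]
  rw [← NatTrans.comp_app_assoc, ← Functor.map_comp, rt A B]
  simp only [Functor.map_comp, NatTrans.comp_app, Category.assoc]
  rw [← NatTrans.naturality_assoc, p']
  rw [reassoc_of% (KFlat.assocApp₃ ((Scheme.Modules.pullback j).obj A)
      ((Scheme.Modules.pullback j).obj B) (I.hom.app C)),
    reassoc_of% (KFlat.assocApp₂ ((Scheme.Modules.pullback j).obj A) (I.hom.app B)
      ((Scheme.Modules.restrictFunctor j).obj C)),
    reassoc_of% (KFlat.assocApp₁ (I.hom.app A) ((Scheme.Modules.restrictFunctor j).obj B)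
      ((Scheme.Modules.restrictFunctor j).obj C))]
  simp only [← Functor.map_comp_assoc, Category.assoc]
  rw [NatTrans.naturality_assoc, ← Functor.map_comp_assoc, rt B C]

/-- the comparison of bicomplexes -/
noncomputable def rtBi (C K : CochainComplex X.Modules ℤ) :
    ((KFlat.Bi (T U)).obj ((resCx j).obj C)).obj ((resCx j).obj K) ≅
      (KFlat.mapBi (Scheme.Modules.restrictFunctor j)).obj (((KFlat.Bi (T X)).obj C).obj K) :=
  HomologicalComplex.Hom.isoOfComponents
    (fun p => HomologicalComplex.Hom.isoOfComponents (fun q => restrTensor j (C.X p) (K.X q))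
      fun q q' _ => (ExtZero.restrTensor_right j (C.X p) (K.d q q')).symm)
    fun p p' _ => HomologicalComplex.hom_ext _ _ fun q =>
      (ExtZero.restrTensor_left j (C.d p p') (K.X q)).symm

/-- restriction commutes with total tensor products -/
noncomputable def rtTot (C K : CochainComplex X.Modules ℤ) :
    tot (T U) ((resCx j).obj C) ((resCx j).obj K) ≅ (resCx j).obj (tot (T X) C K) :=
  haveI : ∀ J : Type, PreservesColimitsOfShape (Discrete J) (Scheme.Modules.restrictFunctor j) :=
    fun _ => inferInstance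
  HomologicalComplex₂.total.mapIso (rtBi j C K) up ≪≫
    KFlat.totalMapIso (Scheme.Modules.restrictFunctor j) (((KFlat.Bi (T X)).obj C).obj K)

@[reassoc]
lemma inc_rtTot (C K : CochainComplex X.Modules ℤ) (p q n : ℤ) (h : p + q = n) :
    inc ((resCx j).obj C) ((resCx j).obj K) p q n h ≫ (rtTot j C K).hom.f n =
      (restrTensor j (C.X p) (K.X q)).hom ≫
        (Scheme.Modules.restrictFunctor j).map (inc C K p q n h) := by
  have : ∀ J : Type, PreservesColimitsOfShape (Discrete J) (Scheme.Modules.restrictFunctor j) :=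
    fun _ => inferInstance
  change HomologicalComplex₂.ιTotal _ up p q n h ≫
    (HomologicalComplex₂.total.map (rtBi j C K).hom up).f n ≫ (KFlat.totalMapXIso _ _ n).hom = _
  rw [HomologicalComplex₂.ιTotal_map_assoc, KFlat.ι_totalMapXIso_hom]
  rfl

lemma rtTot_natural₁ {C C' : CochainComplex X.Modules ℤ} (f : C ⟶ C') (K : CochainComplex X.Modules ℤ) :
    (totL (T U) ((resCx j).obj K)).map ((resCx j).map f) ≫ (rtTot j C' K).hom =
      (rtTot j C K).hom ≫ (resCx j).map ((totL (T X) K).map f) := by
  refine HomologicalComplex.hom_ext _ _ fun n => tot_ext _ _ fun p q h => ?_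
  refine (Category.assoc _ _ _).symm.trans ?_
  refine (congrArg (· ≫ _) (KFlat.ι_totL_map _ _ p q n h)).trans ?_
  refine (Category.assoc _ _ _).trans ((congrArg (_ ≫ ·) (inc_rtTot j C' K p q n h)).trans ?_)
  refine Eq.trans ?_ ((Category.assoc _ _ _).symm.trans ((congrArg (· ≫ _) (inc_rtTot j C K p q n h)).trans
    (Category.assoc _ _ _))).symm
  refine ((Category.assoc _ _ _).symm.trans (congrArg (· ≫ _) (ExtZero.restrTensor_left j (f.f p) (K.X q)))).trans ?_
  refine (Category.assoc _ _ _).trans (congrArg (_ ≫ ·) ?_)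
  exact (((Scheme.Modules.restrictFunctor j).map_comp _ _).symm.trans
    (congrArg _ (KFlat.ι_totL_map f K p q n h).symm)).trans ((Scheme.Modules.restrictFunctor j).map_comp _ _)

lemma rtTot_natural₂ (C : CochainComplex X.Modules ℤ) {K K' : CochainComplex X.Modules ℤ} (g : K ⟶ K') :
    (totR (T U) ((resCx j).obj C)).map ((resCx j).map g) ≫ (rtTot j C K').hom =
      (rtTot j C K).hom ≫ (resCx j).map ((totR (T X) C).map g) := by
  refine HomologicalComplex.hom_ext _ _ fun n => tot_ext _ _ fun p q h => ?_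
  refine (Category.assoc _ _ _).symm.trans ?_
  refine (congrArg (· ≫ _) (inc_totR_map _ _ p q n h)).trans ?_
  refine (Category.assoc _ _ _).trans ((congrArg (_ ≫ ·) (inc_rtTot j C K' p q n h)).trans ?_)
  refine Eq.trans ?_ ((Category.assoc _ _ _).symm.trans ((congrArg (· ≫ _) (inc_rtTot j C K p q n h)).trans
    (Category.assoc _ _ _))).symm
  refine ((Category.assoc _ _ _).symm.trans (congrArg (· ≫ _) (ExtZero.restrTensor_right j (C.X p) (g.f q)))).trans ?_
  refine (Category.assoc _ _ _).trans (congrArg (_ ≫ ·) ?_)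
  exact (((Scheme.Modules.restrictFunctor j).map_comp _ _).symm.trans
    (congrArg _ (inc_totR_map C g p q n h).symm)).trans ((Scheme.Modules.restrictFunctor j).map_comp _ _)

lemma rtTot_assoc (A B C : CochainComplex X.Modules ℤ) :
    (totL (T U) ((resCx j).obj C)).map (rtTot j A B).hom ≫ (rtTot j (tot (T X) A B) C).hom ≫
        (resCx j).map (totAssoc A B C).hom =
      (totAssoc _ _ _).hom ≫ (totR (T U) ((resCx j).obj A)).map (rtTot j B C).hom ≫
        (rtTot j A (tot (T X) B C)).hom := by
  refine HomologicalComplex.hom_ext _ _ fun n => tot_ext₁₂ fun p q r k h₁ h₂ => ?_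
  let G := Scheme.Modules.restrictFunctor j
  have e₁ : inc₁₂ ((resCx j).obj A) ((resCx j).obj B) ((resCx j).obj C) p q r k n h₁ h₂ ≫
      ((totL (T U) ((resCx j).obj C)).map (rtTot j A B).hom).f n =
      ((T U).map (restrTensor j (A.X p) (B.X q)).hom).app _ ≫
        ((T U).map (G.map (inc A B p q k h₁))).app (G.obj (C.X r)) ≫
          inc ((resCx j).obj (tot (T X) A B)) ((resCx j).obj C) k r n h₂ := by
    refine (Category.assoc _ _ _).trans ((congrArg (_ ≫ ·) (KFlat.ι_totL_map _ _ k r n h₂)).trans ?_)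
    refine (Category.assoc _ _ _).symm.trans ((congrArg (· ≫ _) ?_).trans (Category.assoc _ _ _))
    exact ((congr_app ((T U).map_comp _ _) _).symm.trans (congrArg (fun z => ((T U).map z).app _)
      (inc_rtTot j A B p q k h₁))).trans (congr_app ((T U).map_comp _ _) _)
  have e₂ : ((T U).map (G.map (inc A B p q k h₁))).app (G.obj (C.X r)) ≫
      inc ((resCx j).obj (tot (T X) A B)) ((resCx j).obj C) k r n h₂ ≫
        (rtTot j (tot (T X) A B) C).hom.f n ≫ G.map ((totAssoc A B C).hom.f n) =
      (restrTensor j (((T X).obj (A.X p)).obj (B.X q)) (C.X r)).hom ≫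
        G.map (assocApp (A.X p) (B.X q) (C.X r)).hom ≫
          G.map (inc₂₃ A B C p q r (q + r) n rfl (by omega)) := by
    refine (congrArg (_ ≫ ·) ((Category.assoc _ _ _).symm.trans ((congrArg (· ≫ _)
      (inc_rtTot j (tot (T X) A B) C k r n h₂)).trans (Category.assoc _ _ _)))).trans ?_
    refine ((Category.assoc _ _ _).symm.trans ((congrArg (· ≫ _)
      (ExtZero.restrTensor_left j (inc A B p q k h₁) (C.X r))).trans (Category.assoc _ _ _))).trans ?_
    refine congrArg (_ ≫ ·) ?_
    refine Eq.trans ?_ (G.map_comp _ _)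
    refine (congrArg (_ ≫ ·) (G.map_comp _ _).symm).trans ((G.map_comp _ _).symm.trans (congrArg G.map ?_))
    exact (Category.assoc _ _ _).symm.trans (inc_totAssoc A B C p q r k (q + r) n h₁ h₂ rfl (by omega))
  have e₃ : inc₂₃ ((resCx j).obj A) ((resCx j).obj B) ((resCx j).obj C) p q r (q + r) n rfl (by omega) ≫
      ((totR (T U) ((resCx j).obj A)).map (rtTot j B C).hom).f n ≫ (rtTot j A (tot (T X) B C)).hom.f n =
      ((T U).obj (G.obj (A.X p))).map (restrTensor j (B.X q) (C.X r)).hom ≫
        (restrTensor j (A.X p) (((T X).obj (B.X q)).obj (C.X r))).hom ≫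
          G.map (inc₂₃ A B C p q r (q + r) n rfl (by omega)) := by
    refine (Category.assoc _ _ _).trans ((congrArg
      (((T U).obj (((resCx j).obj A).X p)).map
        (inc ((resCx j).obj B) ((resCx j).obj C) q r (q + r) rfl) ≫ ·)
      (inc_totR_map_assoc ((resCx j).obj A) (rtTot j B C).hom p (q + r) n (by omega)
        ((rtTot j A (tot (T X) B C)).hom.f n))).trans ?_)
    refine (congrArg (fun z => _ ≫ _ ≫ z) (inc_rtTot j A (tot (T X) B C) p (q + r) n (by omega))).trans ?_
    refine (Category.assoc _ _ _).symm.trans ?_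
    refine (congrArg (· ≫ _) ((((T U).obj (G.obj (A.X p))).map_comp _ _).symm.trans
      ((congrArg _ (inc_rtTot j B C q r (q + r) rfl)).trans (((T U).obj (G.obj (A.X p))).map_comp _ _)))).trans ?_
    refine (Category.assoc _ _ _).trans (congrArg (_ ≫ ·) ?_)
    refine (Category.assoc _ _ _).symm.trans ?_
    refine (congrArg (· ≫ _) (ExtZero.restrTensor_right j (A.X p) (inc B C q r (q + r) rfl))).trans ?_
    exact (Category.assoc _ _ _).trans (congrArg (_ ≫ ·) (G.map_comp _ _).symm)
  refine ((Category.assoc _ _ _).symm.trans ((congrArg (· ≫ _) e₁).trans ((Category.assoc _ _ _).trans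
    (congrArg (_ ≫ ·) ((Category.assoc _ _ _).trans e₂))))).trans ?_
  refine Eq.trans ?_ ((Category.assoc _ _ _).symm.trans ((congrArg (· ≫ _)
    (inc_totAssoc _ _ _ p q r k (q + r) n h₁ h₂ rfl (by omega))).trans
      ((Category.assoc _ _ _).trans (congrArg (_ ≫ ·) e₃)))).symm
  exact (reassoc_of% (restrTensor_assoc j (A.X p) (B.X q) (C.X r))) _

lemma inc_projTotIso (P : CochainComplex U.Modules ℤ) (K : CochainComplex X.Modules ℤ)
    (p q n : ℤ) (h : p + q = n) :
    (CxOX.extZero j).map (inc P ((resCx j).obj K) p q n h) ≫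
        ((ExtZero.projTotIso j K).hom.app P).f n =
      projHom j (P.X p) (K.X q) ≫ inc ((ezCx j).obj P) K p q n h := by
  let B := ((KFlat.Bi (T U)).obj P).obj ((resCx j).obj K)
  have a₁ : ((KFlat.mapBi (CxOX.extZero j)).obj B).ιTotal up p q n h ≫
      (KFlat.totalMapIso (CxOX.extZero j) B).hom.f n = (CxOX.extZero j).map (B.ιTotal up p q n h) :=
    KFlat.ι_totalMapXIso_hom (CxOX.extZero j) B p q n h
  have a₂ : (CxOX.extZero j).map (B.ιTotal up p q n h) ≫
      (KFlat.totalMapIso (CxOX.extZero j) B).inv.f n =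
      ((KFlat.mapBi (CxOX.extZero j)).obj B).ιTotal up p q n h := by
    rw [← a₁]
    refine (Category.assoc _ _ _).trans ((congrArg (_ ≫ ·) ?_).trans (Category.comp_id _))
    exact congrArg (fun z => z.f n) (KFlat.totalMapIso (CxOX.extZero j) B).hom_inv_id
  have a₃ : ((KFlat.mapBi (CxOX.extZero j)).obj B).ιTotal up p q n h ≫
      (HomologicalComplex₂.total.map ((ExtZero.projBiIso j K).hom.app P) up).f n =
      projHom j (P.X p) (K.X q) ≫ inc ((ezCx j).obj P) K p q n h :=
    HomologicalComplex₂.ιTotal_map (φ := (ExtZero.projBiIso j K).hom.app P) ..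
  simp only [ExtZero.projTotIso, Iso.trans_hom, Functor.isoWhiskerRight_hom, Functor.isoWhiskerLeft_hom,
    Iso.symm_hom, NatTrans.comp_app, Functor.whiskerRight_app, Functor.whiskerLeft_app,
    Functor.associator_hom_app, Functor.associator_inv_app, NatIso.ofComponents_hom_app,
    HomologicalComplex.comp_f, KFlat.totLIso, Iso.refl_hom, Iso.refl_inv]
  dsimp
  simp only [Category.id_comp, Category.comp_id, CategoryTheory.Functor.map_id, HomologicalComplex.id_f,
    HomologicalComplex₂.totalFunctor]
  refine Eq.trans (congrArg ((CxOX.extZero j).map (B.ιTotal up p q n h) ≫ ·) ?_)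
    (((congrArg (· ≫ _) a₂.symm).trans (Category.assoc _ _ _)).symm.trans a₃)
  erw [CategoryTheory.Functor.map_id, Category.id_comp, Category.comp_id]

lemma projHom_counit (M N : X.Modules) :
    projHom j ((Scheme.Modules.restrictFunctor j).obj M) N ≫
        ((T X).map ((CxOX.extZeroAdj j).counit.app M)).app N =
      (CxOX.extZero j).map (restrTensor j M N).hom ≫ (CxOX.extZeroAdj j).counit.app _ := by
  refine Eq.trans ?_ ((CxOX.extZeroAdj j).homEquiv_counit _ _ _)
  rw [projHom, ← Adjunction.homEquiv_naturality_right_symm]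
  congr 1
  rw [Category.assoc, ← ExtZero.restrTensor_left, ← NatTrans.comp_app_assoc, ← Functor.map_comp,
    Adjunction.right_triangle_components]
  exact (congrArg (· ≫ _) (congr_app ((T U).map_id _) _)).trans (Category.id_comp _)

/-- the counit on complexes -/
noncomputable def cxCounit (C : CochainComplex X.Modules ℤ) : (ezCx j).obj ((resCx j).obj C) ⟶ C :=
  (ExtZero.cxAdj (CxOX.extZeroAdj j)).counit.app C

/-- the projection composed with the counit -/
noncomputable def projCounit (C K : CochainComplex X.Modules ℤ) :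
    (ezCx j).obj (tot (T U) ((resCx j).obj C) ((resCx j).obj K)) ⟶ tot (T X) C K := by
  refine (ExtZero.projTotIso j K).hom.app ((resCx j).obj C) ≫ ?_
  dsimp only [Functor.comp_obj]
  exact (totL (T X) K).map (cxCounit j C)

lemma projCounit_f (C K : CochainComplex X.Modules ℤ) (n : ℤ) :
    (projCounit j C K).f n = ((ExtZero.projTotIso j K).hom.app ((resCx j).obj C)).f n ≫
      ((totL (T X) K).map (cxCounit j C)).f n := rfl

/-- `rtTot` is the transpose of the projection map -/
theorem transpose_rtTot (C K : CochainComplex X.Modules ℤ) :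
    (ExtZero.cxAdj (CxOX.extZeroAdj j)).homEquiv (tot (T U) ((resCx j).obj C) ((resCx j).obj K))
      (tot (T X) C K) (projCounit j C K) = (rtTot j C K).hom := by
  rw [← Equiv.eq_symm_apply]
  refine HomologicalComplex.hom_ext _ _ fun n => ?_
  let ε := (CxOX.extZeroAdj j).counit
  let cC : (ezCx j).obj ((resCx j).obj C) ⟶ C := cxCounit j C
  let P := (resCx j).obj C
  rw [projCounit_f]
  change ((ExtZero.projTotIso j K).hom.app P).f n ≫ ((totL (T X) K).map cC).f n =
    ((CxOX.extZeroAdj j).homEquiv ((tot (T U) P ((resCx j).obj K)).X n) ((tot (T X) C K).X n)).symm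
      ((rtTot j C K).hom.f n)
  rw [Adjunction.homEquiv_counit]
  apply ((CxOX.extZeroAdj j).homEquiv _ _).injective
  refine tot_ext _ _ fun p q h => ?_
  refine ((CxOX.extZeroAdj j).homEquiv_naturality_left _ _).symm.trans ?_
  refine Eq.trans ?_ ((CxOX.extZeroAdj j).homEquiv_naturality_left _ _)
  refine congrArg _ ?_
  have l₁ : (CxOX.extZero j).map (inc P ((resCx j).obj K) p q n h) ≫
      ((ExtZero.projTotIso j K).hom.app P).f n ≫ ((totL (T X) K).map cC).f n =
      projHom j (P.X p) (K.X q) ≫ inc ((ezCx j).obj P) K p q n h ≫ ((totL (T X) K).map cC).f n :=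
    ((Category.assoc _ _ _).symm.trans (congrArg (· ≫ ((totL (T X) K).map cC).f n)
      (inc_projTotIso j P K p q n h))).trans (Category.assoc _ _ _)
  have l₂ : inc ((ezCx j).obj P) K p q n h ≫ ((totL (T X) K).map cC).f n =
      ((T X).map (ε.app (C.X p))).app (K.X q) ≫ inc C K p q n h :=
    KFlat.ι_totL_map cC K p q n h
  have r₁ : (CxOX.extZero j).map (inc P ((resCx j).obj K) p q n h) ≫
      (CxOX.extZero j).map ((rtTot j C K).hom.f n) =
      (CxOX.extZero j).map (restrTensor j (C.X p) (K.X q)).hom ≫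
        (CxOX.extZero j).map ((Scheme.Modules.restrictFunctor j).map (inc C K p q n h)) :=
    ((Functor.map_comp _ _ _).symm.trans (congrArg _ (inc_rtTot j C K p q n h))).trans
      (Functor.map_comp _ _ _)
  have r₂ : (CxOX.extZero j).map ((Scheme.Modules.restrictFunctor j).map (inc C K p q n h)) ≫
      ε.app ((tot (T X) C K).X n) = ε.app (((T X).obj (C.X p)).obj (K.X q)) ≫ inc C K p q n h :=
    ε.naturality _
  refine l₁.trans ((congrArg (projHom j (P.X p) (K.X q) ≫ ·) l₂).trans ?_)
  refine Eq.trans ?_ (((Category.assoc _ _ _).symm.trans (congrArg (· ≫ ε.app ((tot (T X) C K).X n)) r₁)).trans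
    ((Category.assoc _ _ _).trans (congrArg (_ ≫ ·) r₂))).symm
  exact ((Category.assoc _ _ _).symm.trans (congrArg (· ≫ inc C K p q n h) (projHom_counit j (C.X p) (K.X q)))).trans
    (Category.assoc _ _ _)

end Groth.DerivedCoh.Duality
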