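import Groth.Agent.DerivedCoh.Duality.Braid

/-!
Biduality for perfect complexes.
-/

universe u

open CategoryTheory CategoryTheory.Limits AlgebraicGeometry HomologicalComplex
open Groth.PicAux (tmulSec pullSec)

namespace Groth.DerivedCoh.Duality

open Groth.DerivedCoh.KFlat (T IsKFlat tot totL totR pullTensor)
open Groth.DerivedCoh.ExtZero (resCx restrTensor)

attribute [local instance] HasDerivedCategory.standard

variable {U X : Scheme.{u}}

local notation "up" => ComplexShape.up ℤ

/-! ### restriction and the symmetry -/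

section Restr

variable (j : U ⟶ X) [IsOpenImmersion j]

lemma pullTensor_braid {Y : Scheme.{u}} (f : Y ⟶ X) (A B : X.Modules) :
    (Scheme.Modules.pullback f).map (braid A B).hom ≫ (pullTensor f B A).hom =
      (pullTensor f A B).hom ≫ (braid _ _).hom := by
  refine ((Scheme.Modules.pullbackPushforwardAdjunction f).homEquiv _ _).injective ?_
  rw [Adjunction.homEquiv_unit, Adjunction.homEquiv_unit]
  refine Groth.PicAux.tensor_hom_ext fun W a b => ?_
  change (pullTensor f B A).hom.app (f ⁻¹ᵁ W)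
      (((Scheme.Modules.pullback f).map (braid A B).hom).app (f ⁻¹ᵁ W)
        (pullSec f _ (tmulSec a b : Γ(CohB1.tensorMod A B, W)))) =
    (braid _ _).hom.app (f ⁻¹ᵁ W) ((pullTensor f A B).hom.app (f ⁻¹ᵁ W)
        (pullSec f _ (tmulSec a b : Γ(CohB1.tensorMod A B, W))))
  refine (congrArg _ ((Groth.PicAux.pullSec_map f _ _).trans
      (congrArg (pullSec f _) (braid_tmul A B W a b)))).trans ?_
  refine (KFlat.pullTensor_pullSec f B A W b a).trans ?_
  refine Eq.symm ((congrArg _ (KFlat.pullTensor_pullSec f A B W a b)).trans ?_)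
  exact braid_tmul _ _ _ _ _

lemma restrTensor_braid (A B : X.Modules) :
    (restrTensor j A B).hom ≫ (Scheme.Modules.restrictFunctor j).map (braid A B).hom =
      (braid _ _).hom ≫ (restrTensor j B A).hom := by
  let I := Scheme.Modules.restrictFunctorIsoPullback j
  have rt : ∀ M N : X.Modules, (restrTensor j M N).hom ≫ I.hom.app _ =
      ((T U).map (I.hom.app M)).app _ ≫ ((T U).obj _).map (I.hom.app N) ≫ (pullTensor j M N).inv := by
    intro M N
    simp [restrTensor, I]
  have p' : (pullTensor j A B).inv ≫ (Scheme.Modules.pullback j).map (braid A B).hom =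
      (braid _ _).hom ≫ (pullTensor j B A).inv := by
    rw [Iso.inv_comp_eq, ← Category.assoc, Iso.eq_comp_inv]
    exact pullTensor_braid j A B
  rw [← cancel_mono (I.hom.app (((T X).obj B).obj A))]
  simp only [Category.assoc]
  rw [show (Scheme.Modules.restrictFunctor j).map (braid A B).hom ≫ I.hom.app _ = I.hom.app _ ≫
    (Scheme.Modules.pullback j).map (braid A B).hom from I.hom.naturality _, reassoc_of% (rt A B),
    rt B A, p', reassoc_of% (braid_natural₂ ((Scheme.Modules.pullback j).obj A) (I.hom.app B)),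
    reassoc_of% (braid_natural₁ (I.hom.app A) ((Scheme.Modules.restrictFunctor j).obj B))]
  rw [((T U).map (I.hom.app B)).naturality_assoc]

lemma br_rtHom (K D : CochainComplex X.Modules ℤ) :
    br ((resCx j).obj K) ((resCx j).obj D) ≫ rtHom j D K =
      rtHom j K D ≫ (resCx j).map (br K D) := by
  refine HomologicalComplex.hom_ext _ _ fun n => tot_ext _ _ fun p q h => ?_
  refine (Category.assoc _ _ _).symm.trans ?_
  refine (congrArg (· ≫ _) (inc_br _ _ p q n h)).trans ?_
  rw [Linear.units_smul_comp, Category.assoc]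
  refine (congrArg (fun z => (p * q).negOnePow • ((braid _ _).hom ≫ z))
    (inc_rtTot j D K q p n (by omega))).trans ?_
  refine Eq.symm ((Category.assoc _ _ _).symm.trans ((congrArg (· ≫ _) (inc_rtTot j K D p q n h)).trans ?_))
  refine (Category.assoc _ _ _).trans ?_
  refine (congrArg (_ ≫ ·) (((Scheme.Modules.restrictFunctor j).map_comp _ _).symm.trans
    (congrArg _ (inc_br K D p q n h)))).trans ?_
  rw [Units.smul_def, Units.smul_def, Functor.map_zsmul, Preadditive.comp_zsmul, Functor.map_comp,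
    ]
  exact congrArg (_ • ·) (((Category.assoc _ _ _).symm.trans
    (congrArg (· ≫ _) (restrTensor_braid j (K.X p) (D.X q)))).trans (Category.assoc _ _ _))

end Restr

/-! ### changing the complexes -/

lemma rep_totL_iff {K : CochainComplex X.Modules ℤ} [DCoh.HasLTensorCx K]
    {C C' : CochainComplex X.Modules ℤ} (hC : IsKFlat (T X).flip C) (hC' : IsKFlat (T X).flip C')
    (f : C' ⟶ C) [QuasiIso f] {M : DCoh.D X} (b : DCoh.toD X ((totL (T X) K).obj C) ⟶ M) :
    Rep K C' hC' (DerivedCategory.Q.map ((totL (T X) K).map f) ≫ b) ↔ Rep K C hC b := by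
  have := (DerivedCategory.isIso_Q_map_iff_quasiIso _ f).2 inferInstance
  refine forall_congr' fun S => ?_
  have : phi K C' hC' (DerivedCategory.Q.map ((totL (T X) K).map f) ≫ b) (S := S) =
      phi K C hC b (S := S) ∘ Iso.homToEquiv (asIso (DerivedCategory.Q.map f)) := funext fun a => by
    change _ = phi K C hC b (a ≫ DerivedCategory.Q.map f)
    rw [phi, phi, Functor.map_comp, Category.assoc, reassoc_of% (iot_natural K hC' hC f)]
  rw [this]
  exact Equiv.bijective_comp _ _

lemma rep_postcomp {K : CochainComplex X.Modules ℤ} [DCoh.HasLTensorCx K]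
    {C : CochainComplex X.Modules ℤ} (hC : IsKFlat (T X).flip C) {M M' : DCoh.D X} (e : M ≅ M')
    (b : DCoh.toD X ((totL (T X) K).obj C) ⟶ M) :
    Rep K C hC (b ≫ e.hom) ↔ Rep K C hC b := by
  refine forall_congr' fun S => ?_
  have : phi K C hC (b ≫ e.hom) (S := S) = Iso.homToEquiv e ∘ phi K C hC b (S := S) :=
    funext fun a => by
      change _ = phi K C hC b a ≫ e.hom
      simp [phi]
  rw [this]
  exact Equiv.comp_bijective _ _

/-- `br`, typed as a map of functors of the first variable -/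
noncomputable def brL (K D : CochainComplex X.Modules ℤ) :
    (totL (T X) D).obj K ⟶ (totL (T X) K).obj D :=
  br K D

lemma brL_tMap {K' K : CochainComplex X.Modules ℤ} (s : K' ⟶ K) (D : CochainComplex X.Modules ℤ) :
    (totL (T X) D).map s ≫ brL K D = brL K' D ≫ tMap D s :=
  br_natural K' D s (𝟙 D)

lemma tMap_brL (K : CochainComplex X.Modules ℤ) {D' D : CochainComplex X.Modules ℤ} (g : D' ⟶ D) :
    tMap K g ≫ brL K D = brL K D' ≫ (totL (T X) K).map g :=
  br_natural K D' (𝟙 K) g

/-- biduality -/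
def FlipRep (K : CochainComplex X.Modules ℤ) (hK : IsKFlat (T X) K) [DCoh.HasLTensorCx K] : Prop :=
  ∀ (D : CochainComplex X.Modules ℤ) (hD : IsKFlat (T X) D) [DCoh.HasLTensorCx D]
    (b : DCoh.toD X ((totL (T X) K).obj D) ⟶ DCoh.toD X (unitN X)),
    Rep K D (isKFlat_flip hD) b →
      Rep D K (isKFlat_flip hK) (DerivedCategory.Q.map (brL K D) ≫ b)

lemma flipRep_map_iff {K' K : CochainComplex X.Modules ℤ} (hK' : IsKFlat (T X) K')
    (hK : IsKFlat (T X) K) (s : K' ⟶ K) [QuasiIso s] [DCoh.HasLTensorCx K'] [DCoh.HasLTensorCx K] :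
    FlipRep K' hK' ↔ FlipRep K hK := by
  have e : ∀ {D : CochainComplex X.Modules ℤ}
      (b : DCoh.toD X ((totL (T X) K).obj D) ⟶ DCoh.toD X (unitN X)),
      DerivedCategory.Q.map (brL K' D) ≫ DerivedCategory.Q.map (tMap D s) ≫ b =
        DerivedCategory.Q.map ((totL (T X) D).map s) ≫ DerivedCategory.Q.map (brL K D) ≫ b := by
    intro D b
    rw [← Functor.map_comp_assoc, ← Functor.map_comp_assoc, brL_tMap]
  constructor
  · intro h D hD _ b hb
    have h' := h D hD _ ((rep_tMap_iff hK' hK s D _ b).2 hb)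
    rw [e] at h'
    exact (rep_totL_iff _ _ s _).1 h'
  · intro h D hD _ b hb
    have := isIso_Q_tMap (isKFlat_flip hD) s
    have hb' : DerivedCategory.Q.map (tMap D s) ≫ inv (DerivedCategory.Q.map (tMap D s)) ≫ b = b :=
      IsIso.hom_inv_id_assoc _ _
    have h' := h D hD _ ((rep_tMap_iff hK' hK s D _ _).1 (hb'.symm ▸ hb))
    have h'' := (rep_totL_iff (isKFlat_flip hK) (isKFlat_flip hK') s _).2 h'
    rw [← e, hb'] at h''
    exact h''

lemma flipRep_congr {K E : CochainComplex X.Modules ℤ} (hK : IsKFlat (T X) K) (hE : IsKFlat (T X) E)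
    (e : DCoh.toD X K ≅ DCoh.toD X E) [DCoh.HasLTensorCx K] [DCoh.HasLTensorCx E]
    (h : FlipRep E hE) : FlipRep K hK := by
  obtain ⟨A, s, hs, g, hfac⟩ := DerivedCategory.right_fac e.hom
  have hg : IsIso (DerivedCategory.Q.map g) := by
    have : DerivedCategory.Q.map g = DerivedCategory.Q.map s ≫ e.hom := by rw [hfac]; simp
    rw [this]
    infer_instance
  have hs' := (DerivedCategory.isIso_Q_map_iff_quasiIso _ s).1 hs
  have hg' := (DerivedCategory.isIso_Q_map_iff_quasiIso _ g).1 hg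
  let π := (KFlat.flatResolutionAug X).app A
  have : QuasiIso π := KFlat.flatResolution_quasiIso A
  have hA := KFlat.flatResolution_isKFlat A
  have := KFlat.hasLTensorCx ((KFlat.flatResolution X).obj A)
  exact (flipRep_map_iff hA hK (π ≫ s)).1 ((flipRep_map_iff hA hE (π ≫ g)).2 h)

theorem flipRep_of_dual {E : CochainComplex X.Modules ℤ} (δ : DualCx E)
    (hEp : DCoh.IsStrictlyPerfect E) [DCoh.HasLTensorCx E] :
    FlipRep E (PCoh.isKFlat_of_isStrictlyPerfect hEp) := by
  intro D hD _ b hb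
  have hE := PCoh.isKFlat_of_isStrictlyPerfect hEp
  have hV := PCoh.isKFlat_of_isStrictlyPerfect δ.isStrictlyPerfect
  have := KFlat.hasLTensorCx δ.V
  let p := DerivedCategory.Q.map (pair δ)
  let adj := derivedTotAdj δ hE hV
  have hp : Rep E δ.V (isKFlat_flip hV) p := rep_pair δ hE hV
  obtain ⟨c, hc⟩ := (hp (DCoh.toD X D)).2 ((iot E D (isKFlat_flip hD)).hom ≫ b)
  have : IsIso c := by
    have hc' : c ≫ adj.homEquiv _ _ ((iot E δ.V (isKFlat_flip hV)).hom ≫ p) =
        adj.homEquiv _ _ ((iot E D (isKFlat_flip hD)).hom ≫ b) := by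
      rw [← hc, phi_eq E adj, Equiv.apply_symm_apply]
    have := (rep_iff E adj δ.V (isKFlat_flip hV) p).1 hp
    have := (rep_iff E adj D (isKFlat_flip hD) b).1 hb
    rw [← hc'] at this
    exact IsIso.of_isIso_comp_right c (adj.homEquiv _ _ ((iot E δ.V (isKFlat_flip hV)).hom ≫ p))
  obtain ⟨A₀, s₀, hs₀, g₀, hfac⟩ := DerivedCategory.right_fac c
  let A := (KFlat.flatResolution X).obj A₀
  let π := (KFlat.flatResolutionAug X).app A₀
  have : QuasiIso π := KFlat.flatResolution_quasiIso A₀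
  have hA := KFlat.flatResolution_isKFlat A₀
  have := KFlat.hasLTensorCx A
  have hs₀' := (DerivedCategory.isIso_Q_map_iff_quasiIso _ s₀).1 hs₀
  let s := π ≫ s₀
  let g := π ≫ g₀
  have hsg : DerivedCategory.Q.map s ≫ c = DerivedCategory.Q.map g := by
    rw [hfac]
    simp [s, g]
  have : QuasiIso g := by
    rw [← DerivedCategory.isIso_Q_map_iff_quasiIso, ← hsg]
    have := (DerivedCategory.isIso_Q_map_iff_quasiIso _ s).2 inferInstance
    infer_instance
  have hfA := isKFlat_flip hA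
  have key : DerivedCategory.Q.map ((totL (T X) E).map s) ≫ b =
      DerivedCategory.Q.map ((totL (T X) E).map g) ≫ p := by
    rw [← cancel_epi (iot E A hfA).hom, ← reassoc_of% (iot_natural E hfA (isKFlat_flip hD) s),
      ← reassoc_of% (iot_natural E hfA (isKFlat_flip hV) g), ← hc, phi,
      ← Functor.map_comp_assoc, hsg]
  have h₁ : Rep δ.V E (isKFlat_flip hE) (DerivedCategory.Q.map (brL E δ.V) ≫ p) := by
    haveI : DCoh.HasLTensorCx (δ.swap hEp).V := (inferInstance : DCoh.HasLTensorCx E)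
    have h := rep_pair (δ.swap hEp) hV hE
    rw [pair_swap] at h
    have e : DerivedCategory.Q.map (brL E δ.V) ≫ p =
        DerivedCategory.Q.map (br E δ.V ≫ pair δ) := (DerivedCategory.Q.map_comp _ _).symm
    rw [e]
    exact h
  have h₂ := (rep_tMap_iff hA hV g E (isKFlat_flip hE) _).2 h₁
  have e₂ : DerivedCategory.Q.map (tMap E g) ≫ DerivedCategory.Q.map (brL E δ.V) ≫ p =
      DerivedCategory.Q.map (tMap E s) ≫ DerivedCategory.Q.map (brL E D) ≫ b := by
    rw [← Functor.map_comp_assoc, ← Functor.map_comp_assoc, tMap_brL, tMap_brL, Functor.map_comp_assoc,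
      Functor.map_comp_assoc, key]
  rw [e₂] at h₂
  exact (rep_tMap_iff hA hD s E _ _).1 h₂

/-- restriction of `O` -/
noncomputable def resUnitIso (j : U ⟶ X) [IsOpenImmersion j] : (resCx j).obj (unitN X) ≅ unitN U :=
  ((singleMapHomologicalComplex (Scheme.Modules.restrictFunctor j) up 0).app _) ≪≫
    (single U.Modules up 0).mapIso (Scheme.Modules.restrictUnitIso j)

/-- uniqueness of representing objects -/
lemma nonempty_iso_of_rep {K : CochainComplex X.Modules ℤ} [DCoh.HasLTensorCx K]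
    {C C' : CochainComplex X.Modules ℤ} {hC : IsKFlat (T X).flip C} {hC' : IsKFlat (T X).flip C'}
    {M : DCoh.D X} {b : DCoh.toD X ((totL (T X) K).obj C) ⟶ M}
    {b' : DCoh.toD X ((totL (T X) K).obj C') ⟶ M} (h : Rep K C hC b) (h' : Rep K C' hC' b') :
    Nonempty (DCoh.toD X C ≅ DCoh.toD X C') := by
  obtain ⟨c, hc⟩ := (h' (DCoh.toD X C)).2 ((iot K C hC).hom ≫ b)
  obtain ⟨c', hc'⟩ := (h (DCoh.toD X C')).2 ((iot K C' hC').hom ≫ b')
  simp only [phi] at hc hc'
  refine ⟨⟨c, c', (h _).1 ?_, (h' _).1 ?_⟩⟩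
  · simp only [phi, Functor.map_comp, Category.assoc, hc', hc, CategoryTheory.Functor.map_id,
      Category.id_comp]
  · simp only [phi, Functor.map_comp, Category.assoc, hc', hc, CategoryTheory.Functor.map_id,
      Category.id_comp]

/-- near every point, the transposed pairing represents and `D` is dualisable -/
theorem exists_local_flip (K : CochainComplex X.Modules ℤ) (hK : IsKFlat (T X) K)
    (hKp : DCoh.IsPerfect (DCoh.toD X K)) [DCoh.HasLTensorCx K] [DCoh.HasRSheafHom K]
    (D : CochainComplex X.Modules ℤ) (hD : IsKFlat (T X) D)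
    (b : DCoh.toD X ((totL (T X) K).obj D) ⟶ DCoh.toD X (unitN X))
    (hb : IsIso ((DCoh.RSheafHomAdj K).homEquiv _ _ ((iot K D (isKFlat_flip hD)).hom ≫ b))) (x : X) :
    ∃ (V : X.Opens) (_ : DCoh.HasLTensorCx ((resCx V.ι).obj D)), x ∈ V ∧
      Good ((resCx V.ι).obj D) ∧
      Rep ((resCx V.ι).obj D) ((resCx V.ι).obj K) (isKFlat_flip_resCx V.ι (isKFlat_flip hK))
        (bR V.ι (DerivedCategory.Q.map (brL K D) ≫ b)) := by
  obtain ⟨V, E, hx, hE, ⟨δ⟩, ⟨e⟩⟩ := exists_local_dual K hKp x
  have := KFlat.hasLTensorCx ((resCx V.ι).obj K)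
  have := KFlat.hasLTensorCx ((resCx V.ι).obj D)
  have := KFlat.hasLTensorCx E
  have := KFlat.hasLTensorCx δ.V
  have hKV := PCoh.isKFlat_rc V.ι hK
  have hDV := PCoh.isKFlat_rc V.ι hD
  have hEf := PCoh.isKFlat_of_isStrictlyPerfect hE
  have hδV := PCoh.isKFlat_of_isStrictlyPerfect δ.isStrictlyPerfect
  have hF : FlipRep ((resCx V.ι).obj K) hKV :=
    flipRep_congr hKV hEf e (flipRep_of_dual δ hE)
  have h₁ : Rep _ _ (isKFlat_flip hDV) (bR V.ι b) :=
    (restrict_isIso_iff V.ι K (isKFlat_flip hD) (isKFlat_flip hDV) b).1 (have := hb; inferInstance)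
  let e' := DerivedCategory.Q.mapIso (resUnitIso V.ι)
  have h₁' := (rep_postcomp _ e' _).2 h₁
  have h₂ := hF _ hDV _ h₁'
  rw [← Category.assoc] at h₂
  have h₃ := (rep_postcomp _ e' _).1 h₂
  refine ⟨V, inferInstance, hx, ?_, ?_⟩
  · -- `D` is locally the dual of `E`
    obtain ⟨A, s, hs, g, hfac⟩ := DerivedCategory.right_fac e.hom
    have hg : IsIso (DerivedCategory.Q.map g) := by
      have : DerivedCategory.Q.map g = DerivedCategory.Q.map s ≫ e.hom := by rw [hfac]; simp
      rw [this]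
      infer_instance
    have hs' := (DerivedCategory.isIso_Q_map_iff_quasiIso _ s).1 hs
    have hg' := (DerivedCategory.isIso_Q_map_iff_quasiIso _ g).1 hg
    let π := (KFlat.flatResolutionAug _).app A
    have : QuasiIso π := KFlat.flatResolution_quasiIso A
    have hA := KFlat.flatResolution_isKFlat A
    have := KFlat.hasLTensorCx ((KFlat.flatResolution _).obj A)
    have hA₁ := (rep_tMap_iff hA hKV (π ≫ s) _ (isKFlat_flip hDV) _).2 h₁'
    have := isIso_Q_tMap (isKFlat_flip hDV) (π ≫ g)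
    rw [← IsIso.hom_inv_id_assoc (DerivedCategory.Q.map (tMap ((resCx V.ι).obj D) (π ≫ g)))
      (DerivedCategory.Q.map (tMap ((resCx V.ι).obj D) (π ≫ s)) ≫ _)] at hA₁
    have hE₁ := (rep_tMap_iff hA hEf (π ≫ g) _ (isKFlat_flip hDV) _).1 hA₁
    obtain ⟨c⟩ := nonempty_iso_of_rep hE₁ (rep_pair δ hEf hδV)
    haveI : DCoh.HasLTensorCx (δ.swap hE).V := (inferInstance : DCoh.HasLTensorCx E)
    exact good_congr hDV hδV c (good_of_dual (δ.swap hE) hδV hEf)
  · have e₃ : bR V.ι (DerivedCategory.Q.map (brL K D) ≫ b) =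
        DerivedCategory.Q.map (brL ((resCx V.ι).obj K) ((resCx V.ι).obj D)) ≫ bR V.ι b := by
      rw [bR, bR, resHom_comp, resHom_Q, ← Functor.map_comp_assoc, ← Functor.map_comp_assoc]
      exact congrArg (fun z => DerivedCategory.Q.map z ≫ resHom V.ι b) (br_rtHom V.ι K D).symm
    rw [e₃]
    exact h₃

/-- biduality: for perfect `K` and `D` representing `RHom(K, O)`, `P ⊗ K` represents `RHom(D, P)` -/
theorem isIso_beta_flip (K : CochainComplex X.Modules ℤ) (hK : IsKFlat (T X) K)
    (hKp : DCoh.IsPerfect (DCoh.toD X K)) [DCoh.HasLTensorCx K] [DCoh.HasRSheafHom K]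
    (D : CochainComplex X.Modules ℤ) (hD : IsKFlat (T X) D) [DCoh.HasLTensorCx D]
    (b : DCoh.toD X ((totL (T X) K).obj D) ⟶ DCoh.toD X (unitN X))
    (hb : IsIso ((DCoh.RSheafHomAdj K).homEquiv _ _ ((iot K D (isKFlat_flip hD)).hom ≫ b)))
    (P : CochainComplex X.Modules ℤ) (hP : IsKFlat (T X).flip P) {Z : DCoh.D X}
    (Φ : ∀ S : DCoh.D X, ((DCoh.LTensorCx D).obj S ⟶
      DCoh.toD X ((totR (T X) P).obj (unitN X))) ≃ (S ⟶ Z))
    (hΦ : ∀ {S' S : DCoh.D X} (f : S' ⟶ S) (g : (DCoh.LTensorCx D).obj S ⟶ _),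
      Φ S' ((DCoh.LTensorCx D).map f ≫ g) = f ≫ Φ S g) :
    IsIso (Φ _ ((iot D ((totR (T X) P).obj K) (isKFlat_flip_tot hP (isKFlat_flip hK))).hom ≫
      beta P hP (DerivedCategory.Q.map (brL K D) ≫ b))) := by
  refine isIso_of_local _ fun x => ?_
  obtain ⟨V, _, hx, hg, h⟩ := exists_local_flip K hK hKp D hD b hb x
  refine ⟨V, hx, (restrict_isIso_iff_of V.ι D _
    (isKFlat_flip_resCx V.ι (isKFlat_flip_tot hP (isKFlat_flip hK))) _ Φ hΦ).2 ?_⟩
  exact rep_bR_beta P hP V.ι _ (isKFlat_flip hK) hg h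

end Groth.DerivedCoh.Duality
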