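import Groth.Agent.DerivedCoh.Duality.CxDual
import Groth.Agent.DerivedCoh.ExtZero.Projection

/-!
Coherence for total tensor products: naturality of associativity, linearity of the duality
adjunction, restriction to opens.
-/

universe u

open CategoryTheory CategoryTheory.Limits AlgebraicGeometry HomologicalComplex
open Groth.PicAux (tmulSec toFun tensor_hom_ext tensor_hom_ext₃ res res_ext)

namespace Groth.DerivedCoh.Duality

open Groth.DerivedCoh.KFlat (T IsKFlat tot totL totR totAssoc assocIso assocApp)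

attribute [local instance] HasDerivedCategory.standard

variable {X : Scheme.{u}}

local notation "up" => ComplexShape.up ℤ

@[reassoc]
lemma inc_totR_map (P : CochainComplex X.Modules ℤ) {K K' : CochainComplex X.Modules ℤ} (g : K ⟶ K')
    (p q n : ℤ) (h : p + q = n) :
    inc P K p q n h ≫ ((totR (T X) P).map g).f n =
      ((T X).obj (P.X p)).map (g.f q) ≫ inc P K' p q n h := by
  refine (ι_mapBifunctorMap (𝟙 P) g (T X) up p q n h).trans ?_
  simp

/-- inclusion of a triple summand, left bracketing -/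
noncomputable abbrev inc₁₂ (A B C : CochainComplex X.Modules ℤ) (p q r n j : ℤ) (h₁ : p + q = n)
    (h₂ : n + r = j) :
    ((T X).obj (((T X).obj (A.X p)).obj (B.X q))).obj (C.X r) ⟶ (tot (T X) (tot (T X) A B) C).X j :=
  ((T X).map (inc A B p q n h₁)).app (C.X r) ≫ inc (tot (T X) A B) C n r j h₂

/-- inclusion of a triple summand, right bracketing -/
noncomputable abbrev inc₂₃ (A B C : CochainComplex X.Modules ℤ) (p q r m j : ℤ) (h₁ : q + r = m)
    (h₂ : p + m = j) :
    ((T X).obj (A.X p)).obj (((T X).obj (B.X q)).obj (C.X r)) ⟶ (tot (T X) A (tot (T X) B C)).X j :=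
  ((T X).obj (A.X p)).map (inc B C q r m h₁) ≫ inc A (tot (T X) B C) p m j h₂

lemma inc_totAssoc (A B C : CochainComplex X.Modules ℤ) (p q r n m j : ℤ) (h₁ : p + q = n)
    (h₂ : n + r = j) (h₃ : q + r = m) (h₄ : p + m = j) :
    inc₁₂ A B C p q r n j h₁ h₂ ≫ (totAssoc A B C).hom.f j =
      (assocApp (A.X p) (B.X q) (C.X r)).hom ≫ inc₂₃ A B C p q r m j h₃ h₄ := by
  haveI := fun (N : X.Modules) (J : Type) =>
    KFlat.preservesColimitsOfShape_tensorBi_flip (J := Discrete J) N
  obtain rfl := h₁
  obtain rfl := h₃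
  have e := mapBifunctor₁₂.ι_eq (T X) (T X) A B C up up p q r (p + q) j rfl h₂
  have e' := mapBifunctor₂₃.ι_eq (T X) (T X) A B C up up up p q r (q + r) j rfl h₄
  refine (congrArg (· ≫ _) e.symm).trans ?_
  refine (ι_mapBifunctorAssociatorX_hom (assocIso X) A B C up up up p q r j h₂).trans ?_
  exact congrArg (_ ≫ ·) e'

lemma tot_ext₁₂ {A B C : CochainComplex X.Modules ℤ} {j : ℤ} {Z : X.Modules}
    {f g : (tot (T X) (tot (T X) A B) C).X j ⟶ Z}
    (h : ∀ p q r n h₁ h₂, inc₁₂ A B C p q r n j h₁ h₂ ≫ f = inc₁₂ A B C p q r n j h₁ h₂ ≫ g) :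
    f = g := by
  haveI := fun (N : X.Modules) (J : Type) =>
    KFlat.preservesColimitsOfShape_tensorBi_flip (J := Discrete J) N
  refine mapBifunctor₁₂.hom_ext fun p q r hh => ?_
  rw [mapBifunctor₁₂.ι_eq (T X) (T X) A B C up up p q r (p + q) j rfl hh]
  exact h p q r (p + q) rfl hh

lemma totAssoc_map {A A' B B' C C' : CochainComplex X.Modules ℤ} (f : A ⟶ A') (g : B ⟶ B')
    (k : C ⟶ C') :
    mapBifunctorMap (mapBifunctorMap f g (T X) up) k (T X) up ≫ (totAssoc A' B' C').hom =
      (totAssoc A B C).hom ≫ mapBifunctorMap f (mapBifunctorMap g k (T X) up) (T X) up := by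
  refine HomologicalComplex.hom_ext _ _ fun j => tot_ext₁₂ fun p q r n h₁ h₂ => ?_
  have hl : inc₁₂ A B C p q r n j h₁ h₂ ≫
      (mapBifunctorMap (mapBifunctorMap f g (T X) up) k (T X) up).f j =
      ((T X).map (((T X).map (f.f p)).app (B.X q) ≫ ((T X).obj (A'.X p)).map (g.f q))).app (C.X r) ≫
        ((T X).obj _).map (k.f r) ≫ inc₁₂ A' B' C' p q r n j h₁ h₂ := by
    refine (Category.assoc _ _ _).trans ?_
    rw [ι_mapBifunctorMap]
    simp only [← Category.assoc]
    refine congrArg (· ≫ _) ?_
    rw [← NatTrans.comp_app, ← Functor.map_comp]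
    refine (congrArg (fun z => ((T X).map z).app (C.X r) ≫ ((T X).obj ((tot (T X) A' B').X n)).map (k.f r))
      (ι_mapBifunctorMap f g (T X) up p q n h₁)).trans ?_
    simp only [Functor.map_comp, NatTrans.comp_app, Category.assoc]
    exact congrArg (_ ≫ ·) (congrArg (_ ≫ ·) (NatTrans.naturality _ _).symm)
  have hr : inc₂₃ A B C p q r (q + r) j rfl (by omega) ≫
      (mapBifunctorMap f (mapBifunctorMap g k (T X) up) (T X) up).f j =
      ((T X).map (f.f p)).app _ ≫ ((T X).obj (A'.X p)).map
          (((T X).map (g.f q)).app (C.X r) ≫ ((T X).obj (B'.X q)).map (k.f r)) ≫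
        inc₂₃ A' B' C' p q r (q + r) j rfl (by omega) := by
    refine (Category.assoc _ _ _).trans ?_
    rw [ι_mapBifunctorMap, NatTrans.naturality_assoc]
    refine congrArg (_ ≫ ·) ?_
    rw [← Functor.map_comp_assoc, ← Functor.map_comp_assoc]
    refine congrArg (· ≫ _) (congrArg _ ?_)
    exact (ι_mapBifunctorMap g k (T X) up q r (q + r) rfl).trans (Category.assoc _ _ _).symm
  refine ((Category.assoc _ _ _).symm.trans (congrArg (· ≫ _) hl)).trans ?_
  refine ((Category.assoc _ _ _).trans (congrArg (_ ≫ ·) ((Category.assoc _ _ _).trans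
    (congrArg (_ ≫ ·) (inc_totAssoc A' B' C' p q r n (q + r) j h₁ h₂ rfl (by omega)))))).trans ?_
  refine Eq.trans ?_ ((Category.assoc _ _ _).symm.trans ((congrArg (· ≫ _)
    (inc_totAssoc A B C p q r n (q + r) j h₁ h₂ rfl (by omega))).trans
      ((Category.assoc _ _ _).trans (congrArg (_ ≫ ·) hr)))).symm
  rw [reassoc_of% (KFlat.assocApp₃ (A'.X p) (B'.X q) (k.f r))]
  simp only [← Category.assoc]
  refine congrArg (· ≫ _) (congrArg (· ≫ _) ?_)
  simp only [Functor.map_comp, NatTrans.comp_app, ← Category.assoc]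
  rw [← KFlat.assocApp₁ (f.f p) (B.X q) (C.X r)]
  simp only [Category.assoc]
  rw [reassoc_of% (KFlat.assocApp₂ (A'.X p) (g.f q) (C.X r))]

/-- the tensor product of two complexes K-flat on the left is K-flat on the left -/
theorem isKFlat_flip_tot {A B : CochainComplex X.Modules ℤ} (hA : IsKFlat (T X).flip A)
    (hB : IsKFlat (T X).flip B) : IsKFlat (T X).flip (tot (T X) A B) := by
  rw [KFlat.isKFlat_flip_iff] at hA hB ⊢
  intro M hM i
  exact (hA _ (hB M hM) i).of_iso (totAssoc A B M).symm

/-! ### linearity of the duality adjunction -/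

/-- morphisms out of a fourfold tensor product -/
lemma tensor_hom_ext₄ {L M N R Z : X.Modules}
    {φ ψ : ((T X).obj (((T X).obj (((T X).obj L).obj M)).obj N)).obj R ⟶ Z}
    (h : ∀ W (a : Γ(L, W)) (b : Γ(M, W)) (c : Γ(N, W)) (d : Γ(R, W)),
      φ.app W (tmulSec (tmulSec (tmulSec a b : Γ(CohB1.tensorMod L M, W)) c :
          Γ(CohB1.tensorMod (CohB1.tensorMod L M) N, W)) d :
          Γ(CohB1.tensorMod (CohB1.tensorMod (CohB1.tensorMod L M) N) R, W)) =
        ψ.app W (tmulSec (tmulSec (tmulSec a b : Γ(CohB1.tensorMod L M, W)) c :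
          Γ(CohB1.tensorMod (CohB1.tensorMod L M) N, W)) d :
          Γ(CohB1.tensorMod (CohB1.tensorMod (CohB1.tensorMod L M) N) R, W))) :
    φ = ψ := by
  refine tensor_hom_ext₃ (L := CohB1.tensorMod L M) (M := N) (N := R) fun V t c d => ?_
  choose W hW p hxW hp using fun x : (V : Type u) =>
    Groth.PicAux.ptenUnit_locally_surjective L M V t x.1 x.2
  refine res_ext W hW (fun x hx => TopologicalSpace.Opens.mem_iSup.2 ⟨⟨x, hx⟩, hxW ⟨x, hx⟩⟩)
    fun x => ?_
  rw [← Groth.PicAux.app_res, ← Groth.PicAux.app_res, Groth.PicAux.res_tmulSec,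
    Groth.PicAux.res_tmulSec, ← hp x]
  generalize p x = q
  induction q using TensorProduct.induction_on with
  | zero => simp
  | tmul a b => exact h _ a b _ _
  | add q r hq hr => rw [map_add, Groth.PicAux.tmulSec_add_left, Groth.PicAux.tmulSec_add_left,
      map_add, map_add, hq, hr]

lemma adjH_linear {E V : X.Modules} (ev : ((T X).obj V).obj E ⟶ Coh.structureModule X)
    (A B N : X.Modules) (c : B ⟶ ((T X).obj N).obj V) :
    adjH ev (((T X).obj A).map c ≫ (assocApp A N V).inv) =
      (assocApp A B E).hom ≫ ((T X).obj A).map (adjH ev c) := by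
  have key : ((T X).map (assocApp A N V).hom).app E ≫ (assocApp A (((T X).obj N).obj V) E).hom ≫
      ((T X).obj A).map ((assocApp N V E).hom ≫ ((T X).obj N).map ev ≫ (rho N).hom) =
      (assocApp (((T X).obj A).obj N) V E).hom ≫ ((T X).obj _).map ev ≫
        (rho (((T X).obj A).obj N)).hom := by
    refine tensor_hom_ext₄ fun W a n v e => ?_
    change (((T X).obj A).map ((assocApp N V E).hom ≫ ((T X).obj N).map ev ≫ (rho N).hom)).app W
        ((assocApp A (((T X).obj N).obj V) E).hom.app W
          ((((T X).map (assocApp A N V).hom).app E).app W _)) =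
      (rho (((T X).obj A).obj N)).hom.app W ((((T X).obj (((T X).obj A).obj N)).map ev).app W
        ((assocApp (((T X).obj A).obj N) V E).hom.app W _))
    refine (congrArg (fun z => (((T X).obj A).map ((assocApp N V E).hom ≫ ((T X).obj N).map ev ≫
        (rho N).hom)).app W ((assocApp A (((T X).obj N).obj V) E).hom.app W z))
      ((KFlat.tensorMap_left_tmulSec (assocApp A N V).hom E W _ e).trans
        (congrArg (fun z => (tmulSec z e : Γ(CohB1.tensorMod _ E, W)))
          (KFlat.assocApp_tmul A N V W a n v)))).trans ?_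
    refine (congrArg _ (KFlat.assocApp_tmul A (((T X).obj N).obj V) E W a _ e)).trans ?_
    refine (KFlat.tensorMap_tmulSec A _ W a _).trans ?_
    refine Eq.trans ?_ (congrArg _ ((congrArg _
      (KFlat.assocApp_tmul (((T X).obj A).obj N) V E W _ v e)).trans
        (KFlat.tensorMap_tmulSec _ ev W _ _))).symm
    refine Eq.trans ?_ (rho_tmul _ W _ _).symm
    refine (congrArg (fun z => (tmulSec a z : Γ(CohB1.tensorMod A N, W)))
      (((congrArg (fun z => (rho N).hom.app W ((((T X).obj N).map ev).app W z))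
        (KFlat.assocApp_tmul N V E W n v e)).trans
        (congrArg _ (KFlat.tensorMap_tmulSec N ev W n _))).trans (rho_tmul N W n _))).trans ?_
    exact Groth.PicAux.tmulSec_smul_right _ a n
  have hk : ((T X).map (assocApp A N V).inv).app E ≫ ((assocApp (((T X).obj A).obj N) V E).hom ≫
      ((T X).obj _).map ev ≫ (rho (((T X).obj A).obj N)).hom) =
      (assocApp A (((T X).obj N).obj V) E).hom ≫
      ((T X).obj A).map ((assocApp N V E).hom ≫ ((T X).obj N).map ev ≫ (rho N).hom) := by
    rw [← key, ← NatTrans.comp_app_assoc, ← Functor.map_comp, Iso.inv_hom_id,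
      CategoryTheory.Functor.map_id, NatTrans.id_app, Category.id_comp]
  rw [adjH, adjH, Functor.map_comp, NatTrans.comp_app, Category.assoc, hk,
    reassoc_of% (KFlat.assocApp₂ A c E), ← Functor.map_comp]

variable {E : CochainComplex X.Modules ℤ} (δ : DualCx E)

/-- the duality adjunction is linear -/
theorem transpose_linear (P D N : CochainComplex X.Modules ℤ)
    (a : D ⟶ (totL (T X) δ.V).obj N) :
    transpose δ (tot (T X) P D) (tot (T X) P N)
        ((totR (T X) P).map a ≫ (totAssoc P N δ.V).inv) =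
      (totAssoc P D E).hom ≫ (totR (T X) P).map (transpose δ D N a) := by
  refine HomologicalComplex.hom_ext _ _ fun j => tot_ext₁₂ fun p d r n h₁ h₂ => ?_
  have hr : inc₁₂ P D E p d r n j h₁ h₂ ≫
      ((totAssoc P D E).hom ≫ (totR (T X) P).map (transpose δ D N a)).f j =
      (assocApp (P.X p) (D.X d) (E.X r)).hom ≫
        ((T X).obj (P.X p)).map (gcomp δ D N a.f d r (d + r) rfl) ≫
          inc P N p (d + r) j (by omega) := by
    refine (Category.assoc _ _ _).symm.trans ?_
    rw [inc_totAssoc P D E p d r n (d + r) j h₁ h₂ rfl (by omega)]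
    refine (Category.assoc _ _ _).trans (congrArg (_ ≫ ·) ?_)
    refine (Category.assoc _ _ _).trans ?_
    refine (congrArg (_ ≫ ·) (inc_totR_map P (transpose δ D N a) p (d + r) j (by omega))).trans ?_
    refine (Category.assoc _ _ _).symm.trans (congrArg (· ≫ _) ?_)
    exact (((T X).obj (P.X p)).map_comp _ _).symm.trans (congrArg _ (inc_transpose δ D N a d r (d + r) rfl))
  refine Eq.trans ?_ hr.symm
  have hl : inc P D p d n h₁ ≫ (((totR (T X) P).map a ≫ (totAssoc P N δ.V).inv).f n ≫
      proj (tot (T X) P N) δ.V n j (-r) (by omega)) =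
      (((T X).obj (P.X p)).map (a.f d ≫ proj N δ.V d (d + r) (-r) (by omega)) ≫
        (assocApp (P.X p) (N.X (d + r)) (δ.V.X (-r))).inv) ≫
          ((T X).map (inc P N p (d + r) j (by omega))).app (δ.V.X (-r)) := by
    refine ((congrArg (inc P D p d n h₁ ≫ ·) (Category.assoc _ _ _)).trans
      (inc_totR_map_assoc P a p d n h₁ _)).trans ?_
    rw [Functor.map_comp, Category.assoc, Category.assoc]
    refine (Category.assoc _ _ _).trans (congrArg (((T X).obj (P.X p)).map (a.f d) ≫ ·) ?_)
    have e1 : ((T X).obj (P.X p)).map (𝟙 ((tot (T X) N δ.V).X d)) = 𝟙 _ :=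
      ((T X).obj (P.X p)).map_id _
    refine (Category.id_comp _).symm.trans (Eq.trans ?_ (Category.id_comp _))
    refine ((congrArg (· ≫ _) e1).symm.trans ?_).trans (congrArg (· ≫ _) e1)
    rw [← sum_proj δ N d, Functor.map_sum]
    refine ((Preadditive.sum_comp ..).trans (Finset.sum_congr rfl fun m _ => ?_)).trans
      (Preadditive.sum_comp ..).symm
    rw [Functor.map_comp, Category.assoc]
    refine Eq.trans ?_ (Category.assoc _ _ _).symm
    refine congrArg (((T X).obj (P.X p)).map (proj N δ.V d (d - m) m (by omega)) ≫ ·) ?_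
    have e : inc₂₃ P N δ.V p (d - m) m d n (by omega) h₁ ≫ (totAssoc P N δ.V).inv.f n =
        (assocApp (P.X p) (N.X (d - m)) (δ.V.X m)).inv ≫
          inc₁₂ P N δ.V p (d - m) m (p + (d - m)) n rfl (by omega) := by
      rw [← cancel_epi (assocApp (P.X p) (N.X (d - m)) (δ.V.X m)).hom, ← Category.assoc,
        ← inc_totAssoc P N δ.V p (d - m) m (p + (d - m)) d n rfl (by omega) (by omega) h₁,
        Category.assoc, ← HomologicalComplex.comp_f, Iso.hom_inv_id, HomologicalComplex.id_f,
        Category.comp_id, Iso.hom_inv_id_assoc]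
    refine (((Category.assoc _ _ _).trans (congrArg (_ ≫ ·) (Category.assoc _ _ _))).symm.trans
      ((congrArg (· ≫ proj (tot (T X) P N) δ.V n j (-r) (by omega)) ((Category.assoc _ _ _).symm.trans e)).trans
        (Category.assoc _ _ _))).trans ?_
    have aux : ∀ (q m : ℤ) (hqm : q + m = d),
        (assocApp (P.X p) (N.X q) (δ.V.X m)).inv ≫
          inc₁₂ P N δ.V p q m (p + q) n rfl (by omega) ≫
            proj (tot (T X) P N) δ.V n j (-r) (by omega) =
        ((T X).obj (P.X p)).map (inc N δ.V q m d hqm) ≫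
          ((T X).obj (P.X p)).map (proj N δ.V d (d + r) (-r) (by omega)) ≫
            (assocApp (P.X p) (N.X (d + r)) (δ.V.X (-r))).inv ≫
              ((T X).map (inc P N p (d + r) j (by omega))).app (δ.V.X (-r)) := by
      intro q m hqm
      by_cases hm : m = -r
      · subst hm
        obtain rfl : q = d + r := by omega
        obtain rfl : j = p + (d + r) := by omega
        refine Eq.trans ?_ ((Category.assoc _ _ _).trans rfl)
        refine Eq.trans ?_ (congrArg (· ≫ _) (((T X).obj (P.X p)).map_comp _ _))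
        rw [inc_proj_self, CategoryTheory.Functor.map_id, Category.id_comp]
        refine congrArg (_ ≫ ·) ?_
        exact (Category.assoc _ _ _).trans
          ((congrArg (_ ≫ ·) (inc_proj_self _ _ _ _ _ _)).trans (Category.comp_id _))
      · refine ((congrArg (_ ≫ ·) ((Category.assoc _ _ _).trans ((congrArg (_ ≫ ·)
          (inc_proj_ne _ _ _ _ _ _ _ _ _ (by omega))).trans comp_zero))).trans comp_zero).trans ?_
        refine Eq.trans ?_ ((Category.assoc _ _ _).trans rfl)
        refine Eq.trans ?_ (congrArg (· ≫ _) (((T X).obj (P.X p)).map_comp _ _))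
        rw [inc_proj_ne _ _ _ _ _ _ _ _ _ (by omega), Functor.map_zero, zero_comp]
    exact aux (d - m) m (by omega)
  rw [Category.assoc, inc_transpose, gcomp, ← adjH_left]
  refine (congrArg (adjH (δ.ev (-r) r (by omega))) hl).trans ?_
  rw [adjH_right, adjH_linear, Category.assoc]
  rfl

end Groth.DerivedCoh.Duality
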