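import Groth.Agent.DerivedCoh.Duality.ModDual
import Groth.Agent.DerivedCoh.KFlat.LTensorGen
import Mathlib.CategoryTheory.Localization.Adjunction
import Mathlib.Data.Int.Interval

/-!
Duals of bounded complexes of finite free modules: `- ⊗ E ⊣ - ⊗ E^∨`.
-/

universe u

open CategoryTheory CategoryTheory.Limits AlgebraicGeometry HomologicalComplex

namespace Groth.DerivedCoh.Duality

open Groth.DerivedCoh.KFlat (T IsKFlat tot totL)

attribute [local instance] HasDerivedCategory.standard

variable {X : Scheme.{u}}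

local notation "up" => ComplexShape.up ℤ
local notation "O" => Coh.structureModule X

section Tot

variable (P E : CochainComplex X.Modules ℤ)

/-- the summand inclusion -/
noncomputable abbrev inc (p q n : ℤ) (h : p + q = n) :
    ((T X).obj (P.X p)).obj (E.X q) ⟶ (tot (T X) P E).X n :=
  ιMapBifunctor P E (T X) up p q n h

lemma inc_d (p q n : ℤ) (h : p + q = n) :
    inc P E p q n h ≫ (tot (T X) P E).d n (n + 1) =
      ((T X).map (P.d p (p + 1))).app (E.X q) ≫ inc P E (p + 1) q (n + 1) (by omega) +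
      p.negOnePow • (((T X).obj (P.X p)).map (E.d q (q + 1)) ≫
        inc P E p (q + 1) (n + 1) (by omega)) := by
  rw [mapBifunctor.d_eq, Preadditive.comp_add, mapBifunctor.ι_D₁, mapBifunctor.ι_D₂,
    mapBifunctor.d₁_eq P E (T X) up (show (up).Rel p (p + 1) from rfl) q (n + 1)
      (show p + 1 + q = n + 1 by omega),
    mapBifunctor.d₂_eq P E (T X) up p (show (up).Rel q (q + 1) from rfl) (n + 1)
      (show p + (q + 1) = n + 1 by omega)]
  simp only [ComplexShape.ε₁_def, ComplexShape.ε₂_def, one_smul]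
  rfl

lemma tot_ext {n : ℤ} {A : X.Modules} {f g : (tot (T X) P E).X n ⟶ A}
    (h : ∀ p q hpq, inc P E p q n hpq ≫ f = inc P E p q n hpq ≫ g) : f = g :=
  HomologicalComplex₂.total.hom_ext _ fun p q hpq => h p q hpq

open Classical in
/-- projection to a summand -/
noncomputable def proj (n j m : ℤ) (h : j + m = n) :
    (tot (T X) P E).X n ⟶ ((T X).obj (P.X j)).obj (E.X m) :=
  HomologicalComplex.mapBifunctorDesc fun p q (hpq : p + q = n) =>
    if e : p = j then eqToHom (by subst e; obtain rfl : q = m := (by omega); rfl) else 0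

@[reassoc]
lemma inc_proj_self (n j m : ℤ) (h : j + m = n) :
    inc P E j m n h ≫ proj P E n j m h = 𝟙 _ := by
  simp [proj]

@[reassoc]
lemma inc_proj_ne (n p q j m : ℤ) (hp : p + q = n) (h : j + m = n) (e : p ≠ j) :
    inc P E p q n hp ≫ proj P E n j m h = 0 := by
  simp [proj, dif_neg e]

lemma d_proj (n j₀ m₀ j m : ℤ) (hj : j₀ + 1 = j) (hm : m₀ + 1 = m) (h : j + m = n + 1) :
    (tot (T X) P E).d n (n + 1) ≫ proj P E (n + 1) j m h =
      proj P E n j₀ m (by omega) ≫ ((T X).map (P.d j₀ j)).app (E.X m) +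
      j.negOnePow • (proj P E n j m₀ (by omega) ≫ ((T X).obj (P.X j)).map (E.d m₀ m)) := by
  refine tot_ext P E fun p q hpq => ?_
  rw [← Category.assoc, inc_d, Preadditive.add_comp, Linear.units_smul_comp, Category.assoc,
    Category.assoc, Preadditive.comp_add, Linear.comp_units_smul]
  congr 1
  · by_cases e : p = j₀
    · subst e hj
      obtain rfl : q = m := by omega
      rw [inc_proj_self, Category.comp_id, inc_proj_self_assoc]
    · rw [inc_proj_ne _ _ _ _ _ _ _ _ _ (by omega), inc_proj_ne_assoc _ _ _ _ _ _ _ _ _ e, comp_zero,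
        zero_comp]
  · by_cases e : p = j
    · subst e hm
      obtain rfl : q = m₀ := by omega
      rw [inc_proj_self, Category.comp_id, inc_proj_self_assoc]
    · rw [inc_proj_ne _ _ _ _ _ _ _ _ _ e, inc_proj_ne_assoc _ _ _ _ _ _ _ _ _ e, comp_zero,
        zero_comp, smul_zero, smul_zero]

end Tot

/-- the dual of a bounded complex -/
structure DualCx (E : CochainComplex X.Modules ℤ) where
  /-- the dual complex -/
  V : CochainComplex X.Modules ℤ
  /-- lower bound of the dual -/
  lo : ℤ
  /-- upper bound of the dual -/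
  hi : ℤ
  /-- the pairing -/
  ev : ∀ m r : ℤ, m + r = 0 → (((T X).obj (V.X m)).obj (E.X r) ⟶ O)
  bij : ∀ m r h, ∀ A M : X.Modules,
    Function.Bijective (adjH (ev m r h) : (A ⟶ ((T X).obj M).obj (V.X m)) → _)
  bij' : ∀ m r h, ∀ A M : X.Modules,
    Function.Bijective (adjH (sw (ev m r h)) : (A ⟶ ((T X).obj M).obj (E.X r)) → _)
  zeroE : ∀ r, -r ∉ Finset.Icc lo hi → IsZero (E.X r)
  comm : ∀ m m' r r' : ℤ, m + 1 = m' → r + 1 = r' → ∀ (h₁ : m' + r = 0) (h₂ : m + r' = 0),
    ((T X).map (V.d m m')).app (E.X r) ≫ ev m' r h₁ +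
      m.negOnePow • (((T X).obj (V.X m)).map (E.d r r') ≫ ev m r' h₂) = 0
  zero : ∀ m, m ∉ Finset.Icc lo hi → IsZero (V.X m)
  fl : ∀ m, FlatMod.IsFinLocFree (V.X m)

variable {E : CochainComplex X.Modules ℤ} (δ : DualCx E)

lemma sum_proj (M : CochainComplex X.Modules ℤ) (n : ℤ) :
    ∑ m ∈ Finset.Icc δ.lo δ.hi, proj M δ.V n (n - m) m (by omega) ≫ inc M δ.V (n - m) m n (by omega) =
      𝟙 _ := by
  refine tot_ext M δ.V fun p q hpq => ?_
  by_cases hq : q ∈ Finset.Icc δ.lo δ.hi
  · obtain rfl : p = n - q := by omega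
    rw [Preadditive.comp_sum, Finset.sum_eq_single q]
    · rw [inc_proj_self_assoc, Category.comp_id]
    · intro m _ hm
      rw [inc_proj_ne_assoc _ _ _ _ _ _ _ _ _ (by omega), zero_comp]
    · intro h
      exact absurd hq h
  · exact ((((T X).obj (M.X p)).map_isZero (δ.zero q hq))).eq_of_src _ _

lemma tot_ext_proj {M : CochainComplex X.Modules ℤ} {n : ℤ} {A : X.Modules}
    {f g : A ⟶ (tot (T X) M δ.V).X n}
    (h : ∀ j m hjm, f ≫ proj M δ.V n j m hjm = g ≫ proj M δ.V n j m hjm) : f = g := by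
  rw [← Category.comp_id f, ← Category.comp_id g, ← sum_proj δ M n, Preadditive.comp_sum,
    Preadditive.comp_sum]
  refine Finset.sum_congr rfl fun m _ => ?_
  rw [← Category.assoc, h, Category.assoc]

variable (P M : CochainComplex X.Modules ℤ)

/-- a component of a map into `M ⊗ E^∨`, transposed -/
noncomputable def gcomp (a : ∀ p, P.X p ⟶ (tot (T X) M δ.V).X p) (p r j : ℤ) (h : p + r = j) :
    ((T X).obj (P.X p)).obj (E.X r) ⟶ M.X j :=
  adjH (δ.ev (-r) r (by omega)) (a p ≫ proj M δ.V p j (-r) (by omega))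

lemma gcomp_eq (a : ∀ p, P.X p ⟶ (tot (T X) M δ.V).X p) (p r m j : ℤ) (h : m + r = 0) (h' : j + m = p) :
    adjH (δ.ev m r h) (a p ≫ proj M δ.V p j m h') = gcomp δ P M a p r j (by omega) := by
  obtain rfl : m = -r := by omega
  rfl

lemma adjH_comm (a : ∀ p, P.X p ⟶ (tot (T X) M δ.V).X p) (p m r j₀ j : ℤ) (h : m + r = 0)
    (hj : j₀ + 1 = j) (hp : j + m = p + 1) :
    adjH (δ.ev m r h) ((a p ≫ (tot (T X) M δ.V).d p (p + 1)) ≫ proj M δ.V (p + 1) j m hp) =
      gcomp δ P M a p r j₀ (by omega) ≫ M.d j₀ j -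
      p.negOnePow • (((T X).obj (P.X p)).map (E.d r (r + 1)) ≫
        gcomp δ P M a p (r + 1) j (by omega)) := by
  have hc := δ.comm (m - 1) m r (r + 1) (by omega) rfl h (by omega)
  have hc' : ((T X).map (δ.V.d (m - 1) m)).app (E.X r) ≫ δ.ev m r h =
      ((T X).obj (δ.V.X (m - 1))).map (-((m - 1).negOnePow • E.d r (r + 1))) ≫
        δ.ev (m - 1) (r + 1) (by omega) := by
    rw [eq_neg_of_add_eq_zero_left hc, Functor.map_neg, Units.smul_def, Units.smul_def,
      Functor.map_zsmul, Preadditive.neg_comp, Preadditive.zsmul_comp]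
  rw [Category.assoc, d_proj M δ.V p j₀ (m - 1) j m hj (by omega) hp, Preadditive.comp_add,
    adjH_add, ← Category.assoc, adjH_right, gcomp_eq]
  refine Eq.trans ?_ (sub_eq_add_neg _ _).symm
  congr 1
  rw [Units.smul_def, Units.smul_def, Preadditive.comp_zsmul, ← Category.assoc,
    ← Preadditive.comp_zsmul, ← Functor.map_zsmul]
  have hc'' : ((T X).map (j.negOnePow.val • δ.V.d (m - 1) m)).app (E.X r) ≫ δ.ev m r h =
      ((T X).obj (δ.V.X (m - 1))).map (-(p.negOnePow.val • E.d r (r + 1))) ≫
        δ.ev (m - 1) (r + 1) (by omega) := by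
    rw [Functor.map_zsmul, show (p.negOnePow : ℤˣ) = j.negOnePow * (m - 1).negOnePow by
      rw [← Int.negOnePow_add]; congr 1; omega]
    simp only [NatTrans.app_zsmul, Preadditive.zsmul_comp, hc', Units.val_mul, mul_smul,
      Functor.map_neg, Functor.map_zsmul, Units.smul_def, Preadditive.neg_comp, smul_neg]
  rw [adjH_pairing hc'',
    gcomp_eq, Functor.map_neg, Functor.map_zsmul, Preadditive.neg_comp, Preadditive.zsmul_comp]

lemma adjH_comp_d (a : ∀ p, P.X p ⟶ (tot (T X) M δ.V).X p) (p m r j : ℤ) (h : m + r = 0)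
    (hp : j + m = p + 1) :
    adjH (δ.ev m r h) ((P.d p (p + 1) ≫ a (p + 1)) ≫ proj M δ.V (p + 1) j m hp) =
      ((T X).map (P.d p (p + 1))).app (E.X r) ≫ gcomp δ P M a (p + 1) r j (by omega) := by
  rw [Category.assoc, adjH_left, gcomp_eq]

/-- transposition is compatible with differentials -/
lemma isChain_iff (a : ∀ p, P.X p ⟶ (tot (T X) M δ.V).X p) :
    (∀ p, a p ≫ (tot (T X) M δ.V).d p (p + 1) = P.d p (p + 1) ≫ a (p + 1)) ↔
      ∀ p r j₀ j (h₀ : p + r = j₀) (h : j₀ + 1 = j),
        gcomp δ P M a p r j₀ h₀ ≫ M.d j₀ j =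
          ((T X).map (P.d p (p + 1))).app (E.X r) ≫ gcomp δ P M a (p + 1) r j (by omega) +
          p.negOnePow • (((T X).obj (P.X p)).map (E.d r (r + 1)) ≫
            gcomp δ P M a p (r + 1) j (by omega)) := by
  constructor
  · intro ha p r j₀ j h₀ h
    have e := congrArg (fun z => adjH (δ.ev (-r) r (by omega)) (z ≫ proj M δ.V (p + 1) j (-r) (by omega)))
      (ha p)
    change adjH _ _ = adjH _ _ at e
    rw [adjH_comm δ P M a p (-r) r j₀ j (by omega) h (by omega),
      adjH_comp_d δ P M a p (-r) r j (by omega) (by omega), sub_eq_iff_eq_add] at e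
    exact e
  · intro hg p
    refine tot_ext_proj δ fun j m hjm => ?_
    apply (δ.bij m (-m) (by omega) _ _).1
    rw [adjH_comm δ P M a p m (-m) (j - 1) j (by omega) (by omega) hjm,
      adjH_comp_d δ P M a p m (-m) j (by omega) hjm, sub_eq_iff_eq_add]
    exact hg p (-m) (j - 1) j _ (by omega)

/-- transposition -/
noncomputable def transpose (a : P ⟶ (totL (T X) δ.V).obj M) : (totL (T X) E).obj P ⟶ M where
  f n := HomologicalComplex.mapBifunctorDesc fun p r (h : p + r = n) => gcomp δ P M a.f p r n h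
  comm' n n' hn := by
    obtain rfl : n + 1 = n' := hn
    refine tot_ext P E fun p r hpr => ?_
    change inc P E p r n hpr ≫ _ = inc P E p r n hpr ≫ (tot (T X) P E).d n (n + 1) ≫ _
    refine ((Category.assoc _ _ _).symm.trans ?_).trans (Category.assoc _ _ _)
    rw [inc_d, Preadditive.add_comp, Linear.units_smul_comp, Category.assoc, Category.assoc]
    simp only [inc, Category.assoc, ι_mapBifunctorDesc, ι_mapBifunctorDesc_assoc]
    exact (isChain_iff δ P M a.f).1 (fun p => a.comm p (p + 1)) p r n (n + 1) hpr rfl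

lemma inc_transpose (a : P ⟶ (totL (T X) δ.V).obj M) (p r n : ℤ) (h : p + r = n) :
    inc P E p r n h ≫ (transpose δ P M a).f n = gcomp δ P M a.f p r n h := by
  simp [transpose]

lemma bijective_transpose : Function.Bijective (transpose δ P M) := by
  refine ⟨fun a b hab => ?_, fun g => ?_⟩
  · refine HomologicalComplex.hom_ext _ _ fun p => tot_ext_proj δ fun j m hjm => ?_
    apply (δ.bij m (-m) (by omega) _ _).1
    rw [gcomp_eq, gcomp_eq, ← inc_transpose, ← inc_transpose, hab]
  · choose c hc using fun (p j m : ℤ) (h : j + m = p) =>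
      (δ.bij m (-m) (by omega) (P.X p) (M.X j)).2 (inc P E p (-m) j (by omega) ≫ g.f j)
    let a : ∀ p, P.X p ⟶ (tot (T X) M δ.V).X p := fun p =>
      ∑ m ∈ Finset.Icc δ.lo δ.hi, c p (p - m) m (by omega) ≫ inc M δ.V (p - m) m p (by omega)
    have ha : ∀ p j m h, a p ≫ proj M δ.V p j m h = c p j m h := by
      intro p j m h
      obtain rfl : j = p - m := by omega
      by_cases hm : m ∈ Finset.Icc δ.lo δ.hi
      · rw [Preadditive.sum_comp, Finset.sum_eq_single m]
        · rw [Category.assoc, inc_proj_self, Category.comp_id]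
        · intro k _ hk
          rw [Category.assoc, inc_proj_ne _ _ _ _ _ _ _ _ _ (by omega), comp_zero]
        · intro h
          exact absurd hm h
      · exact (((T X).obj (M.X _)).map_isZero (δ.zero m hm)).eq_of_tgt _ _
    have hg : ∀ p r j (h : p + r = j), gcomp δ P M a p r j h = inc P E p r j h ≫ g.f j := by
      intro p r j h
      obtain ⟨m, rfl⟩ : ∃ m, r = -m := ⟨-r, by omega⟩
      rw [← gcomp_eq δ P M a p (-m) m j (by omega) (by omega), ha]
      exact hc p j m (by omega)
    have hchain := (isChain_iff δ P M a).2 fun p r j₀ j h₀ h => by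
      obtain rfl := h
      rw [hg, hg, hg]
      refine (Category.assoc _ _ _).trans ((congrArg (inc P E p r j₀ h₀ ≫ ·) (g.comm j₀ (j₀ + 1))).trans ?_)
      refine (Category.assoc _ _ _).symm.trans ?_
      change (inc P E p r j₀ h₀ ≫ (tot (T X) P E).d j₀ (j₀ + 1)) ≫ _ = _
      rw [inc_d, Preadditive.add_comp, Linear.units_smul_comp, Category.assoc, Category.assoc]
    refine ⟨⟨a, fun p p' hp => ?_⟩, ?_⟩
    · obtain rfl : p + 1 = p' := hp
      exact hchain p
    · refine HomologicalComplex.hom_ext _ _ fun n => tot_ext P E fun p r h => ?_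
      rw [inc_transpose]
      exact hg p r n h

lemma transpose_left {P' : CochainComplex X.Modules ℤ} (x : P' ⟶ P)
    (a : P ⟶ (totL (T X) δ.V).obj M) :
    transpose δ P' M (x ≫ a) = (totL (T X) E).map x ≫ transpose δ P M a := by
  refine HomologicalComplex.hom_ext _ _ fun n => tot_ext P' E fun p r h => ?_
  refine (inc_transpose δ P' M _ p r n h).trans (Eq.trans ?_ (Category.assoc _ _ _))
  refine Eq.trans ?_ (congrArg (· ≫ (transpose δ P M a).f n) (KFlat.ι_totL_map x E p r n h)).symm
  refine Eq.trans ?_ (Category.assoc _ _ _).symm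
  refine Eq.trans ?_ (congrArg (((T X).map (x.f p)).app (E.X r) ≫ ·) (inc_transpose δ P M a p r n h).symm)
  exact (congrArg (adjH (δ.ev (-r) r (by omega))) (Category.assoc _ _ _)).trans (adjH_left _ _ _)

lemma transpose_right {M' : CochainComplex X.Modules ℤ} (a : P ⟶ (totL (T X) δ.V).obj M)
    (y : M ⟶ M') :
    transpose δ P M' (a ≫ (totL (T X) δ.V).map y) = transpose δ P M a ≫ y := by
  refine HomologicalComplex.hom_ext _ _ fun n => tot_ext P E fun p r h => ?_
  refine (inc_transpose δ P M' _ p r n h).trans (Eq.trans ?_ (Category.assoc _ _ _))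
  refine Eq.trans ?_ (congrArg (· ≫ y.f n) (inc_transpose δ P M a p r n h)).symm
  have e : ((totL (T X) δ.V).map y).f p ≫ proj M' δ.V p n (-r) (by omega) =
      proj M δ.V p n (-r) (by omega) ≫ ((T X).map (y.f n)).app (δ.V.X (-r)) := by
    refine tot_ext M δ.V fun p' q' h' => ?_
    refine (Category.assoc _ _ _).symm.trans ?_
    refine (congrArg (· ≫ proj M' δ.V p n (-r) (by omega))
      (KFlat.ι_totL_map y δ.V p' q' p h')).trans ((Category.assoc _ _ _).trans ?_)
    by_cases e : p' = n
    · subst e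
      obtain rfl : q' = -r := by omega
      rw [inc_proj_self, Category.comp_id, inc_proj_self_assoc]
    · rw [inc_proj_ne _ _ _ _ _ _ _ _ _ e, inc_proj_ne_assoc _ _ _ _ _ _ _ _ _ e, comp_zero, zero_comp]
  exact (congrArg (adjH (δ.ev (-r) r (by omega))) (((Category.assoc _ _ _).trans
    (congrArg (a.f p ≫ ·) e)).trans (Category.assoc _ _ _).symm)).trans (adjH_right _ _ _)

/-- `- ⊗ E ⊣ - ⊗ E^∨` on complexes -/
noncomputable def totAdj : totL (T X) E ⊣ totL (T X) δ.V :=
  Adjunction.mkOfHomEquiv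
    { homEquiv := fun P M => (Equiv.ofBijective _ (bijective_transpose δ P M)).symm
      homEquiv_naturality_left_symm := fun x a => transpose_left δ _ _ x a
      homEquiv_naturality_right := fun φ y => by
        apply (Equiv.ofBijective _ (bijective_transpose δ _ _)).injective
        refine (Equiv.apply_symm_apply _ _).trans ?_
        refine Eq.trans ?_ (transpose_right δ _ _ _ y).symm
        exact congrArg (· ≫ y) (Equiv.apply_symm_apply (Equiv.ofBijective _ (bijective_transpose δ _ _)) φ).symm }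

/-- `- ⊗^L E ⊣ - ⊗^L E^∨` -/
noncomputable def derivedTotAdj (hE : IsKFlat (T X) E) (hV : IsKFlat (T X) δ.V)
    [DCoh.HasLTensorCx E] [DCoh.HasLTensorCx δ.V] : DCoh.LTensorCx E ⊣ DCoh.LTensorCx δ.V :=
  haveI : CatCommSq (totL (T X) E) DerivedCategory.Q DerivedCategory.Q (DCoh.LTensorCx E) :=
    ⟨(KFlat.ltcxNatIso E hE).symm⟩
  haveI : CatCommSq (totL (T X) δ.V) DerivedCategory.Q DerivedCategory.Q (DCoh.LTensorCx δ.V) :=
    ⟨(KFlat.ltcxNatIso δ.V hV).symm⟩
  (totAdj δ).localization DerivedCategory.Q (HomologicalComplex.quasiIso X.Modules up)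
    DerivedCategory.Q (HomologicalComplex.quasiIso X.Modules up) _ _

lemma DualCx.isStrictlyPerfect : DCoh.IsStrictlyPerfect δ.V :=
  ⟨⟨δ.lo, δ.hi, fun m hm => δ.zero m (by simp only [Finset.mem_Icc]; omega)⟩, δ.fl⟩

/-- a bounded complex of modules with perfect pairings has a dual -/
noncomputable def dualCxOf (E : CochainComplex X.Modules ℤ) (a b : ℤ)
    (hab : ∀ q, q < a ∨ b < q → IsZero (E.X q)) (dp : ∀ q, DP (E.X q)) : DualCx E :=
  let dp' : ∀ q, DP (E.X q) := fun q =>
    if h : q < a ∨ b < q then dpZero (hab q h) else dp q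
  { V :=
      { X := fun m => (dp' (-m)).V
        d := fun m m' => (m + 1).negOnePow • dualMap (dp' (-m')) (dp' (-m)) (E.d (-m') (-m))
        shape := fun m m' h => by
          rw [E.shape _ _ (by simp at h ⊢; omega), dualMap_zero, smul_zero]
        d_comp_d' := fun i j k _ _ => by
          simp only [Linear.units_smul_comp, Linear.comp_units_smul]
          rw [dualMap_comp, E.d_comp_d, dualMap_zero, smul_zero, smul_zero] }
    ev := fun m r h => ((T X).obj (dp' (-m)).V).map (E.XIsoOfEq (show r = -m by omega)).hom ≫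
      (dp' (-m)).ev
    bij := fun m r h A M => by
      obtain rfl : r = -m := by omega
      simpa using (dp' (-m)).bij A M
    bij' := fun m r h A M => by
      obtain rfl : r = -m := by omega
      simpa using (dp' (-m)).bij' A M
    zeroE := fun r hr => by
      simp only [Finset.mem_Icc] at hr
      exact hab r (by omega)
    comm := fun m m' r r' hm hr h₁ h₂ => by
      obtain rfl : r = -m' := by omega
      obtain rfl : r' = -m := by omega
      change ((T X).map ((m + 1).negOnePow • dualMap (dp' (-m')) (dp' (-m)) (E.d (-m') (-m)))).app _ ≫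
        ((T X).obj _).map _ ≫ _ + _ = 0
      simp only [XIsoOfEq_rfl, Iso.refl_hom, CategoryTheory.Functor.map_id, Category.id_comp]
      rw [Units.smul_def, Functor.map_zsmul, NatTrans.app_zsmul, Preadditive.zsmul_comp, dualMap_ev,
        Int.negOnePow_succ, Units.smul_def, Units.val_neg, neg_smul, neg_add_cancel]
    lo := -b
    hi := -a
    zero := fun m hm => by
      simp only [Finset.mem_Icc] at hm
      have h : -m < a ∨ b < -m := by omega
      change IsZero (dp' (-m)).V
      simp only [dp', dif_pos h]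
      exact hab _ h
    fl := fun m => (dp' (-m)).fl }

end Groth.DerivedCoh.Duality
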