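import Groth.Agent.DerivedCoh.Duality.RestrictTot
import Groth.Agent.DerivedCoh.Duality.LocalModel

/-!
Representing `RHom(K, M)`: locality and change of `K`.
-/

universe u

open CategoryTheory CategoryTheory.Limits AlgebraicGeometry HomologicalComplex ZeroObject
open Groth.KTheory.Perf

namespace Groth.DerivedCoh.Duality

open Groth.DerivedCoh.KFlat (T IsKFlat tot totL totR totAssoc)
open Groth.DerivedCoh.ExtZero (resCx ezCx)

attribute [local instance] HasDerivedCategory.standard

variable {U X : Scheme.{u}}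

local notation "up" => ComplexShape.up ℤ

/-- `C ⊗^L K` for `C` K-flat on the left -/
noncomputable def iot (K : CochainComplex X.Modules ℤ) [DCoh.HasLTensorCx K]
    (C : CochainComplex X.Modules ℤ) (hC : IsKFlat (T X).flip C) :
    (DCoh.LTensorCx K).obj (DCoh.toD X C) ≅ DCoh.toD X ((totL (T X) K).obj C) :=
  @asIso _ _ _ _ ((KFlat.ltcxCounit K).app C) (KFlat.isIso_ltcxCounit_app K C hC)

lemma iot_natural (K : CochainComplex X.Modules ℤ) [DCoh.HasLTensorCx K]
    {C C' : CochainComplex X.Modules ℤ} (hC : IsKFlat (T X).flip C) (hC' : IsKFlat (T X).flip C')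
    (f : C ⟶ C') :
    (DCoh.LTensorCx K).map (DerivedCategory.Q.map f) ≫ (iot K C' hC').hom =
      (iot K C hC).hom ≫ DerivedCategory.Q.map ((totL (T X) K).map f) :=
  (KFlat.ltcxCounit K).naturality f

/-- `a ↦ (a ⊗ K) ≫ b` -/
noncomputable def phi (K : CochainComplex X.Modules ℤ) [DCoh.HasLTensorCx K]
    (C : CochainComplex X.Modules ℤ) (hC : IsKFlat (T X).flip C) {M : DCoh.D X}
    (b : DCoh.toD X ((totL (T X) K).obj C) ⟶ M) {S : DCoh.D X} (a : S ⟶ DCoh.toD X C) :
    (DCoh.LTensorCx K).obj S ⟶ M :=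
  (DCoh.LTensorCx K).map a ≫ (iot K C hC).hom ≫ b

/-- `(C, b)` represents `RHom(K, M)` -/
def Rep (K : CochainComplex X.Modules ℤ) [DCoh.HasLTensorCx K]
    (C : CochainComplex X.Modules ℤ) (hC : IsKFlat (T X).flip C) {M : DCoh.D X}
    (b : DCoh.toD X ((totL (T X) K).obj C) ⟶ M) : Prop :=
  ∀ S : DCoh.D X, Function.Bijective (phi K C hC b (S := S))

lemma phi_eq (K : CochainComplex X.Modules ℤ) [DCoh.HasLTensorCx K] {G : DCoh.D X ⥤ DCoh.D X}
    (adj : DCoh.LTensorCx K ⊣ G) (C : CochainComplex X.Modules ℤ) (hC : IsKFlat (T X).flip C)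
    {M : DCoh.D X} (b : DCoh.toD X ((totL (T X) K).obj C) ⟶ M) {S : DCoh.D X} (a : S ⟶ DCoh.toD X C) :
    phi K C hC b a = (adj.homEquiv _ _).symm (a ≫ adj.homEquiv _ _ ((iot K C hC).hom ≫ b)) := by
  rw [Adjunction.homEquiv_naturality_left_symm, Equiv.symm_apply_apply]
  rfl

lemma rep_iff (K : CochainComplex X.Modules ℤ) [DCoh.HasLTensorCx K] {G : DCoh.D X ⥤ DCoh.D X}
    (adj : DCoh.LTensorCx K ⊣ G) (C : CochainComplex X.Modules ℤ) (hC : IsKFlat (T X).flip C)
    {M : DCoh.D X} (b : DCoh.toD X ((totL (T X) K).obj C) ⟶ M) :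
    Rep K C hC b ↔ IsIso (adj.homEquiv _ _ ((iot K C hC).hom ≫ b)) := by
  rw [isIso_iff_yoneda_map_bijective]
  refine forall_congr' fun S => ?_
  have : phi K C hC b (S := S) = (adj.homEquiv S M).symm ∘
      fun a => a ≫ adj.homEquiv _ _ ((iot K C hC).hom ≫ b) := funext (phi_eq K adj C hC b)
  rw [this]
  exact Equiv.comp_bijective _ _

lemma rep_of_iso {K : CochainComplex X.Modules ℤ} [DCoh.HasLTensorCx K]
    {C C' : CochainComplex X.Modules ℤ} (hC : IsKFlat (T X).flip C) (hC' : IsKFlat (T X).flip C')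
    (e : C' ≅ C) {M M' : DCoh.D X} (e' : M ≅ M') {b : DCoh.toD X ((totL (T X) K).obj C) ⟶ M}
    (h : Rep K C hC b) :
    Rep K C' hC' (DerivedCategory.Q.map ((totL (T X) K).map e.hom) ≫ b ≫ e'.hom) := fun S => by
  have : phi K C' hC' (DerivedCategory.Q.map ((totL (T X) K).map e.hom) ≫ b ≫ e'.hom) (S := S) =
      (fun g => g ≫ e'.hom) ∘ phi K C hC b (S := S) ∘ (fun a => a ≫ DerivedCategory.Q.map e.hom) :=
    funext fun a => by
      simp only [Function.comp, phi, Functor.map_comp, Category.assoc]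
      refine congrArg ((DCoh.LTensorCx K).map a ≫ ·) ?_
      exact (Category.assoc _ _ _).symm.trans ((congrArg (· ≫ b ≫ e'.hom)
        (iot_natural K hC' hC e.hom).symm).trans (Category.assoc _ _ _))
  rw [this]
  exact ((Iso.homToEquiv e').bijective).comp ((h S).comp
    (Iso.homToEquiv (DerivedCategory.Q.mapIso e)).bijective)

/-! ### change of `K` -/

lemma rep_map_iff {K' K : CochainComplex X.Modules ℤ} (hK' : IsKFlat (T X) K')
    (hK : IsKFlat (T X) K) (s : K' ⟶ K) [QuasiIso s] [DCoh.HasLTensorCx K'] [DCoh.HasLTensorCx K]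
    (C : CochainComplex X.Modules ℤ) (hC : IsKFlat (T X).flip C) {M : DCoh.D X}
    (b : DCoh.toD X ((totL (T X) K).obj C) ⟶ M) :
    Rep K' C hC (DerivedCategory.Q.map ((totR (T X) C).map s) ≫ b) ↔ Rep K C hC b := by
  let σ := ltcxMapIso hK' hK s
  have hσ : σ.hom.app (DCoh.toD X C) = (iot K' C hC).hom ≫
      DerivedCategory.Q.map ((totR (T X) C).map s) ≫ (iot K C hC).inv := by
    refine ((Iso.eq_comp_inv _).2 ?_).trans (Category.assoc _ _ _)
    simp only [σ, ltcxMapIso, Localization.liftNatIso_hom, Localization.liftNatTrans_app,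
      Localization.Lifting.iso, Iso.refl_hom, Iso.refl_inv, NatTrans.id_app, Iso.trans_hom,
      NatTrans.comp_app, asIso_hom, Functor.whiskerRight_app, Iso.symm_hom, Category.assoc,
      Functor.comp_obj]
    erw [Category.id_comp, Category.id_comp]
    refine congrArg ((iot K' C hC).hom ≫ ·) ?_
    refine Eq.trans (congrArg (_ ≫ ·) ?_) (Category.comp_id _)
    exact ((KFlat.ltcxNatIso K hK).app C).inv_hom_id
  refine forall_congr' fun S => ?_
  have : phi K' C hC (DerivedCategory.Q.map ((totR (T X) C).map s) ≫ b) (S := S) =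
      (fun g => σ.hom.app S ≫ g) ∘ phi K C hC b (S := S) := funext fun a => by
    simp only [Function.comp, phi]
    rw [← Category.assoc (σ.hom.app S), ← σ.hom.naturality, Category.assoc, hσ]
    simp only [Category.assoc]
    exact congrArg ((DCoh.LTensorCx K').map a ≫ ·) (congrArg ((iot K' C hC).hom ≫ ·)
      (congrArg (_ ≫ ·) (Iso.inv_hom_id_assoc _ _).symm))
  rw [this]
  exact Equiv.comp_bijective _ (Iso.homFromEquiv (σ.app S).symm)

/-! ### restriction to opens -/

variable (j : U ⟶ X) [IsOpenImmersion j]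

/-- `rQ(B) ≅ Q(rB)` -/
noncomputable def rdQ (B : CochainComplex X.Modules ℤ) :
    (DCoh.restrictD j).obj (DCoh.toD X B) ≅ DCoh.toD U ((resCx j).obj B) :=
  (Scheme.Modules.restrictFunctor j).mapDerivedCategoryFactors.app B

/-- `ezQ(A) ≅ Q(ezA)` -/
noncomputable def ezQ (A : CochainComplex U.Modules ℤ) :
    (CxOX.extZeroD j).obj (DCoh.toD U A) ≅ DCoh.toD X ((ezCx j).obj A) :=
  (CxOX.extZero j).mapDerivedCategoryFactors.app A

/-- restriction of a morphism between complexes -/
noncomputable def resHom {A B : CochainComplex X.Modules ℤ} (b : DCoh.toD X A ⟶ DCoh.toD X B) :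
    DCoh.toD U ((resCx j).obj A) ⟶ DCoh.toD U ((resCx j).obj B) :=
  (rdQ j A).inv ≫ (DCoh.restrictD j).map b ≫ (rdQ j B).hom

lemma resHom_Q {A B : CochainComplex X.Modules ℤ} (f : A ⟶ B) :
    resHom j (DerivedCategory.Q.map f) = DerivedCategory.Q.map ((resCx j).map f) := by
  rw [resHom, Iso.inv_comp_eq]
  exact (Scheme.Modules.restrictFunctor j).mapDerivedCategoryFactors.hom.naturality f

lemma resHom_comp {A B C : CochainComplex X.Modules ℤ} (a : DCoh.toD X A ⟶ DCoh.toD X B)
    (b : DCoh.toD X B ⟶ DCoh.toD X C) : resHom j (a ≫ b) = resHom j a ≫ resHom j b := by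
  simp [resHom]

/-- transposition along `j_! ⊣ j^*` -/
noncomputable def upE (A : CochainComplex U.Modules ℤ) (B : CochainComplex X.Modules ℤ) :
    (DCoh.toD U A ⟶ DCoh.toD U ((resCx j).obj B)) ≃ (DCoh.toD X ((ezCx j).obj A) ⟶ DCoh.toD X B) :=
  (Iso.homToEquiv (rdQ j B).symm).trans
    (((ExtZero.extZeroDAdj j).homEquiv _ _).symm.trans (Iso.homFromEquiv (ezQ j A)))

lemma upE_apply {A : CochainComplex U.Modules ℤ} {B : CochainComplex X.Modules ℤ}
    (a : DCoh.toD U A ⟶ DCoh.toD U ((resCx j).obj B)) :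
    upE j A B a = (ezQ j A).inv ≫
      ((ExtZero.extZeroDAdj j).homEquiv _ _).symm (a ≫ (rdQ j B).inv) :=
  rfl

lemma upE_left {A' A : CochainComplex U.Modules ℤ} {B : CochainComplex X.Modules ℤ} (g : A' ⟶ A)
    (a : DCoh.toD U A ⟶ DCoh.toD U ((resCx j).obj B)) :
    upE j A' B (DerivedCategory.Q.map g ≫ a) =
      DerivedCategory.Q.map ((ezCx j).map g) ≫ upE j A B a := by
  rw [upE_apply, upE_apply, Category.assoc, Adjunction.homEquiv_naturality_left_symm,
    ← Category.assoc, ← Category.assoc]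
  refine congrArg (· ≫ _) ?_
  rw [Iso.inv_comp_eq, ← Category.assoc, Iso.eq_comp_inv]
  exact (CxOX.extZero j).mapDerivedCategoryFactors.hom.naturality g

lemma upE_right {A : CochainComplex U.Modules ℤ} {B B' : CochainComplex X.Modules ℤ}
    (a : DCoh.toD U A ⟶ DCoh.toD U ((resCx j).obj B)) (b : DCoh.toD X B ⟶ DCoh.toD X B') :
    upE j A B' (a ≫ resHom j b) = upE j A B a ≫ b := by
  rw [upE_apply, upE_apply, Category.assoc, Category.assoc, ← Adjunction.homEquiv_naturality_right_symm, resHom]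
  simp

lemma upE_Q {A : CochainComplex U.Modules ℤ} {B : CochainComplex X.Modules ℤ}
    (f : A ⟶ (resCx j).obj B) :
    upE j A B (DerivedCategory.Q.map f) =
      DerivedCategory.Q.map ((ezCx j).map f ≫ cxCounit j B) := by
  rw [← Category.comp_id (DerivedCategory.Q.map f), upE_left, Functor.map_comp]
  refine congrArg (_ ≫ ·) ?_
  rw [upE_apply, Category.id_comp, Adjunction.homEquiv_counit, Iso.inv_comp_eq]
  letI : CatCommSq ((CxOX.extZero j).mapHomologicalComplex up) DerivedCategory.Q DerivedCategory.Q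
      (CxOX.extZeroD j) := ⟨(CxOX.extZero j).mapDerivedCategoryFactors.symm⟩
  letI : CatCommSq ((Scheme.Modules.restrictFunctor j).mapHomologicalComplex up) DerivedCategory.Q
      DerivedCategory.Q (DCoh.restrictD j) :=
    ⟨(Scheme.Modules.restrictFunctor j).mapDerivedCategoryFactors.symm⟩
  refine (congrArg (_ ≫ ·) (Adjunction.Localization.η_app (L₁ := DerivedCategory.Q)
    (L₂ := DerivedCategory.Q) (W₂ := HomologicalComplex.quasiIso X.Modules up)
    (G' := CxOX.extZeroD j) (F' := DCoh.restrictD j) (ExtZero.cxAdj (CxOX.extZeroAdj j)) B)).trans ?_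
  erw [← Functor.map_comp_assoc]
  change (CxOX.extZeroD j).map ((rdQ j B).inv ≫ (rdQ j B).hom) ≫ (ezQ j ((resCx j).obj B)).hom ≫
    DerivedCategory.Q.map ((ExtZero.cxAdj (CxOX.extZeroAdj j)).counit.app B) = _
  rw [Iso.inv_hom_id, CategoryTheory.Functor.map_id, Category.id_comp]
  rfl

/-- `rtTot`, typed for rewriting -/
noncomputable def rtHom (C K : CochainComplex X.Modules ℤ) :
    (totL (T U) ((resCx j).obj K)).obj ((resCx j).obj C) ⟶ (resCx j).obj ((totL (T X) K).obj C) :=
  (rtTot j C K).hom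

/-- the inverse projection, typed for rewriting -/
noncomputable def projInv (P : CochainComplex U.Modules ℤ) (K : CochainComplex X.Modules ℤ) :
    (totL (T X) K).obj ((ezCx j).obj P) ⟶ (ezCx j).obj ((totL (T U) ((resCx j).obj K)).obj P) :=
  ((ExtZero.projTotIso j K).app P).inv

lemma projInv_natural {P P' : CochainComplex U.Modules ℤ} (t : P ⟶ P') (K : CochainComplex X.Modules ℤ) :
    (totL (T X) K).map ((ezCx j).map t) ≫ projInv j P' K =
      projInv j P K ≫ (ezCx j).map ((totL (T U) ((resCx j).obj K)).map t) :=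
  (ExtZero.projTotIso j K).inv.naturality t

lemma projInv_rtHom {C : CochainComplex X.Modules ℤ} {P : CochainComplex U.Modules ℤ}
    (f : P ⟶ (resCx j).obj C) (K : CochainComplex X.Modules ℤ) :
    projInv j P K ≫ (ezCx j).map ((totL (T U) ((resCx j).obj K)).map f ≫ rtHom j C K) ≫
        cxCounit j ((totL (T X) K).obj C) = (totL (T X) K).map ((ezCx j).map f ≫ cxCounit j C) := by
  have e₀ : (ezCx j).map (rtTot j C K).hom ≫ cxCounit j (tot (T X) C K) = projCounit j C K := by
    rw [← transpose_rtTot j C K]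
    exact (((ExtZero.cxAdj (CxOX.extZeroAdj j)).homEquiv_counit _ _ _).symm.trans
      (Equiv.symm_apply_apply _ _))
  have e₁ : projInv j ((resCx j).obj C) K ≫ projCounit j C K = (totL (T X) K).map (cxCounit j C) :=
    (Category.assoc _ _ _).symm.trans ((congrArg (· ≫ _)
      ((ExtZero.projTotIso j K).app ((resCx j).obj C)).inv_hom_id).trans (Category.id_comp _))
  rw [Functor.map_comp, Category.assoc, Functor.map_comp, ← reassoc_of% (projInv_natural j f K)]
  refine congrArg (_ ≫ ·) ?_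
  exact (congrArg (projInv j ((resCx j).obj C) K ≫ ·) e₀).trans e₁

/-- restriction of a pairing -/
noncomputable def bR {C K M : CochainComplex X.Modules ℤ}
    (b : DCoh.toD X ((totL (T X) K).obj C) ⟶ DCoh.toD X M) :
    DCoh.toD U ((totL (T U) ((resCx j).obj K)).obj ((resCx j).obj C)) ⟶ DCoh.toD U ((resCx j).obj M) :=
  DerivedCategory.Q.map (rtHom j C K) ≫ resHom j b

variable (K : CochainComplex X.Modules ℤ) [DCoh.HasLTensorCx K]
  [DCoh.HasLTensorCx ((resCx j).obj K)]

/-- the bijection between the targets of `phi` -/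
noncomputable def phiE (P : CochainComplex U.Modules ℤ) (hP : IsKFlat (T U).flip P)
    (M : CochainComplex X.Modules ℤ) :
    ((DCoh.LTensorCx ((resCx j).obj K)).obj (DCoh.toD U P) ⟶ DCoh.toD U ((resCx j).obj M)) ≃
      ((DCoh.LTensorCx K).obj (DCoh.toD X ((ezCx j).obj P)) ⟶ DCoh.toD X M) :=
  (Iso.homFromEquiv (iot ((resCx j).obj K) P hP)).trans ((upE j _ M).trans
    ((Iso.homFromEquiv (DerivedCategory.Q.mapIso ((ExtZero.projTotIso j K).app P))).trans
      (Iso.homFromEquiv (iot K _ (ExtZero.isKFlat_flip_ezCx j P hP)).symm)))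

lemma phiE_apply (P : CochainComplex U.Modules ℤ) (hP : IsKFlat (T U).flip P)
    (M : CochainComplex X.Modules ℤ)
    (x : (DCoh.LTensorCx ((resCx j).obj K)).obj (DCoh.toD U P) ⟶ DCoh.toD U ((resCx j).obj M)) :
    phiE j K P hP M x = (iot K _ (ExtZero.isKFlat_flip_ezCx j P hP)).hom ≫
      DerivedCategory.Q.map (projInv j P K) ≫
        upE j _ M ((iot ((resCx j).obj K) P hP).inv ≫ x) :=
  rfl

lemma phi_upE {C : CochainComplex X.Modules ℤ} (hC : IsKFlat (T X).flip C)
    (hC' : IsKFlat (T U).flip ((resCx j).obj C)) {M : CochainComplex X.Modules ℤ}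
    (b : DCoh.toD X ((totL (T X) K).obj C) ⟶ DCoh.toD X M) (P : CochainComplex U.Modules ℤ)
    (hP : IsKFlat (T U).flip P) (a : DCoh.toD U P ⟶ DCoh.toD U ((resCx j).obj C)) :
    phiE j K P hP M (phi _ _ hC' (bR j b) a) = phi K C hC b (upE j P C a) := by
  have key : ∀ (P : CochainComplex U.Modules ℤ) (hP : IsKFlat (T U).flip P)
      (f : P ⟶ (resCx j).obj C),
      phiE j K P hP M (phi _ _ hC' (bR j b) (DerivedCategory.Q.map f)) =
        phi K C hC b (upE j P C (DerivedCategory.Q.map f)) := by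
    intro P hP f
    rw [upE_Q, phiE_apply, phi, phi, reassoc_of% (iot_natural _ hP hC' f), Iso.inv_hom_id_assoc, bR,
      ← Functor.map_comp_assoc, upE_right, upE_Q, reassoc_of% (iot_natural K
        (ExtZero.isKFlat_flip_ezCx j P hP) hC ((ezCx j).map f ≫ cxCounit j C))]
    refine congrArg (_ ≫ ·) ?_
    rw [← projInv_rtHom]
    simp only [Functor.map_comp, Category.assoc]
  obtain ⟨A, s, hs, g, hfac⟩ := DerivedCategory.right_fac a
  let π := (KFlat.flatResolutionAug U).app A
  have : QuasiIso π := KFlat.flatResolution_quasiIso A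
  have hA := KFlat.flatResolution_isKFlat_flip A
  let t := π ≫ s
  have ht : IsIso (DerivedCategory.Q.map t) := by
    have : IsIso (DerivedCategory.Q.map π) := (DerivedCategory.isIso_Q_map_iff_quasiIso _ _).2 ‹_›
    have := hs
    simp only [t, Functor.map_comp]
    infer_instance
  have ha : DerivedCategory.Q.map t ≫ a = DerivedCategory.Q.map (π ≫ g) := by
    rw [hfac]
    simp [t]
  have hsq : ∀ (x : (DCoh.LTensorCx ((resCx j).obj K)).obj (DCoh.toD U P) ⟶ _),
      phiE j K _ hA M ((DCoh.LTensorCx _).map (DerivedCategory.Q.map t) ≫ x) =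
        (DCoh.LTensorCx K).map (DerivedCategory.Q.map ((ezCx j).map t)) ≫ phiE j K P hP M x := by
    intro x
    rw [phiE_apply, phiE_apply]
    rw [show (iot _ _ hA).inv ≫ (DCoh.LTensorCx ((resCx j).obj K)).map (DerivedCategory.Q.map t) ≫ x =
      DerivedCategory.Q.map ((totL (T U) ((resCx j).obj K)).map t) ≫ (iot _ P hP).inv ≫ x by
        rw [Iso.inv_comp_eq, ← reassoc_of% (iot_natural _ hA hP t), Iso.hom_inv_id_assoc],
      upE_left, reassoc_of% (iot_natural K (ExtZero.isKFlat_flip_ezCx j _ hA)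
        (ExtZero.isKFlat_flip_ezCx j P hP) ((ezCx j).map t))]
    refine congrArg (_ ≫ ·) ?_
    rw [← Functor.map_comp_assoc, ← Functor.map_comp_assoc, projInv_natural]
  have : IsIso ((DCoh.LTensorCx K).map (DerivedCategory.Q.map ((ezCx j).map t))) := by
    have e : DerivedCategory.Q.map ((ezCx j).map t) =
        (ezQ j _).inv ≫ (CxOX.extZeroD j).map (DerivedCategory.Q.map t) ≫ (ezQ j _).hom := by
      rw [Iso.eq_inv_comp]
      exact ((CxOX.extZero j).mapDerivedCategoryFactors.hom.naturality t).symm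
    rw [e]
    infer_instance
  rw [← cancel_epi ((DCoh.LTensorCx K).map (DerivedCategory.Q.map ((ezCx j).map t))), ← hsq,
    phi, ← Functor.map_comp_assoc, ha, phi, ← Functor.map_comp_assoc, ← upE_left, ha]
  exact key _ hA (π ≫ g)

/-- representability near points implies representability, for an object representing at one
target -/
theorem restrict_isIso_iff_of {C : CochainComplex X.Modules ℤ}
    (hC : IsKFlat (T X).flip C) (hC' : IsKFlat (T U).flip ((resCx j).obj C))
    {M : CochainComplex X.Modules ℤ} (b : DCoh.toD X ((totL (T X) K).obj C) ⟶ DCoh.toD X M)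
    {Z : DCoh.D X} (Φ : ∀ S : DCoh.D X, ((DCoh.LTensorCx K).obj S ⟶ DCoh.toD X M) ≃ (S ⟶ Z))
    (hΦ : ∀ {S' S : DCoh.D X} (f : S' ⟶ S) (g : (DCoh.LTensorCx K).obj S ⟶ DCoh.toD X M),
      Φ S' ((DCoh.LTensorCx K).map f ≫ g) = f ≫ Φ S g) :
    IsIso ((DCoh.restrictD j).map (Φ _ ((iot K C hC).hom ≫ b))) ↔
      Rep ((resCx j).obj K) ((resCx j).obj C) hC' (bR j b) := by
  let τ := Φ _ ((iot K C hC).hom ≫ b)
  have h : ∀ (P : CochainComplex U.Modules ℤ) (hP : IsKFlat (T U).flip P),
      (Function.Bijective (fun a : DCoh.toD U P ⟶ _ => a ≫ (DCoh.restrictD j).map τ) ↔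
        Function.Bijective (phi _ _ hC' (bR j b) (S := DCoh.toD U P))) := by
    intro P hP
    let adj := ExtZero.extZeroDAdj j
    let α := (Iso.homToEquiv (rdQ j C)).trans ((upE j P C).trans (Iso.refl _).homToEquiv)
    let β := (adj.homEquiv (DCoh.toD U P) Z).symm.trans
      ((Iso.homFromEquiv (ezQ j P)).trans ((Φ _).symm.trans
        (phiE j K P hP M).symm))
    have : phi _ _ hC' (bR j b) (S := DCoh.toD U P) =
        β ∘ (fun a => a ≫ (DCoh.restrictD j).map τ) ∘ (Iso.homToEquiv (rdQ j C)).symm := by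
      funext a
      apply (phiE j K P hP M).injective
      rw [phi_upE j K hC hC' b P hP a, show phi K C hC b (upE j P C a) = (Φ _).symm (upE j P C a ≫ τ) from
        (Equiv.eq_symm_apply _).2 (hΦ _ _)]
      change _ = phiE j K P hP M ((phiE j K P hP M).symm ((Φ _).symm
        ((ezQ j P).inv ≫ (adj.homEquiv _ _).symm ((a ≫ (rdQ j C).inv) ≫ (DCoh.restrictD j).map τ))))
      rw [Equiv.apply_symm_apply, Adjunction.homEquiv_naturality_right_symm, upE_apply, Category.assoc]
    rw [this, Equiv.comp_bijective, Equiv.bijective_comp]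
  rw [isIso_iff_yoneda_map_bijective]
  constructor
  · intro hb S
    obtain ⟨F, ⟨e⟩⟩ := exists_rep S
    let P := (KFlat.flatResolution U).obj F
    have hP := KFlat.flatResolution_isKFlat_flip F
    have : IsIso (DerivedCategory.Q.map ((KFlat.flatResolutionAug U).app F)) :=
      (DerivedCategory.isIso_Q_map_iff_quasiIso _ _).2 (KFlat.flatResolution_quasiIso F)
    let e' : DCoh.toD U P ≅ S := asIso (DerivedCategory.Q.map ((KFlat.flatResolutionAug U).app F)) ≪≫ e
    have : phi _ _ hC' (bR j b) (S := S) =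
        Iso.homFromEquiv ((DCoh.LTensorCx _).mapIso e') ∘ phi _ _ hC' (bR j b) (S := DCoh.toD U P) ∘
          Iso.homFromEquiv e'.symm := by
      funext a
      simp [phi]
    rw [this, Equiv.comp_bijective, Equiv.bijective_comp]
    exact (h P hP).1 (hb _)
  · intro hb S
    obtain ⟨F, ⟨e⟩⟩ := exists_rep S
    let P := (KFlat.flatResolution U).obj F
    have hP := KFlat.flatResolution_isKFlat_flip F
    have : IsIso (DerivedCategory.Q.map ((KFlat.flatResolutionAug U).app F)) :=
      (DerivedCategory.isIso_Q_map_iff_quasiIso _ _).2 (KFlat.flatResolution_quasiIso F)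
    let e' : DCoh.toD U P ≅ S := asIso (DerivedCategory.Q.map ((KFlat.flatResolutionAug U).app F)) ≪≫ e
    have : (fun a : S ⟶ _ => a ≫ (DCoh.restrictD j).map τ) =
        Iso.homFromEquiv e' ∘ (fun a : DCoh.toD U P ⟶ _ => a ≫ (DCoh.restrictD j).map τ) ∘
          Iso.homFromEquiv e'.symm := by
      funext a
      simp
    rw [show (fun a : S ⟶ _ => a ≫ (DCoh.restrictD j).map (Φ _
      ((iot K C hC).hom ≫ b))) = _ from this, Equiv.comp_bijective, Equiv.bijective_comp]
    exact (h P hP).2 (hb _)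

/-- representability near points implies representability -/
theorem restrict_isIso_iff [DCoh.HasRSheafHom K] {C : CochainComplex X.Modules ℤ}
    (hC : IsKFlat (T X).flip C) (hC' : IsKFlat (T U).flip ((resCx j).obj C))
    {M : CochainComplex X.Modules ℤ} (b : DCoh.toD X ((totL (T X) K).obj C) ⟶ DCoh.toD X M) :
    IsIso ((DCoh.restrictD j).map ((DCoh.RSheafHomAdj K).homEquiv _ _ ((iot K C hC).hom ≫ b))) ↔
      Rep ((resCx j).obj K) ((resCx j).obj C) hC' (bR j b) :=
  restrict_isIso_iff_of j K hC hC' b (fun S => (DCoh.RSheafHomAdj K).homEquiv S _)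
    fun f g => (DCoh.RSheafHomAdj K).homEquiv_naturality_left f g

/-- isomorphisms in `D(O_X)` are local -/
theorem isIso_of_local {A B : DCoh.D X} (f : A ⟶ B)
    (h : ∀ x : X, ∃ (V : X.Opens), x ∈ V ∧ IsIso ((DCoh.restrictD V.ι).map f)) : IsIso f := by
  obtain ⟨Z, g, k, hT⟩ := Pretriangulated.distinguished_cocone_triangle f
  have hZ : ∀ i, IsZero (DCoh.HD Z i) := fun i => isZero_of_local fun x => by
    obtain ⟨V, hx, hV⟩ := h x
    have hT' := (Rd V.ι).map_distinguished _ hT
    have h₃ : IsZero ((Rd V.ι).obj Z) :=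
      (Pretriangulated.Triangle.isZero₃_iff_isIso₁ _ hT').2 hV
    obtain ⟨c⟩ := nonempty_hdRd V.ι Z i
    exact ⟨V, hx, ((DerivedCategory.homologyFunctor _ i).map_isZero h₃).of_iso c.symm⟩
  have hZ' : IsZero Z := by
    have h0 : IsIso (0 : (0 : DCoh.D X) ⟶ Z) := by
      rw [DerivedCategory.isIso_iff]
      exact fun i => isIso_of_source_target_iso_zero _
        ((DerivedCategory.homologyFunctor _ i).map_isZero (isZero_zero _)).isoZero (hZ i).isoZero
    exact (isZero_zero _).of_iso (asIso (0 : (0 : DCoh.D X) ⟶ Z)).symm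
  exact (Pretriangulated.Triangle.isZero₃_iff_isIso₁ _ hT).1 hZ'

end Groth.DerivedCoh.Duality
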